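import Mathlib.RingTheory.IntegralClosure.IsIntegralClosure.Basic
import Mathlib.RingTheory.DiscreteValuationRing.TFAE
import Mathlib.RingTheory.Noetherian.OfPrime
import Mathlib.RingTheory.Ideal.Height
import Mathlib.RingTheory.Finiteness.Basic
import Mathlib.Algebra.Module.Submodule.Lattice

/-!
# Fields cut out by a Noetherian integrally closed subring

For a field `K`, a ring map `j : K → L` and a Noetherian subring `B` of `L` integrally closed in
`L`, the subring `V = j⁻¹ B` behaves like a Krull ring: elements outside `V` are detected at height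
one primes with principal localisation.
-/

universe u v

namespace Groth.Agent.H25.MoriNagata

/-- An element stabilising a finitely generated submodule containing a unit is integral. -/
theorem isIntegral_of_unit_mem {R A : Type*} [CommRing R] [CommRing A] [Algebra R A]
    (N : Submodule R A) (hN : N.FG) {a : A} (ha : IsUnit a) (haN : a ∈ N) (x : A)
    (hx : ∀ n ∈ N, x * n ∈ N) : IsIntegral R x := by
  let A' : Subalgebra R A :=
    { carrier := { x | ∀ n ∈ N, x * n ∈ N }
      mul_mem' := fun {a b} ha hb n hn => by rw [mul_assoc]; exact ha _ (hb _ hn)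
      one_mem' := fun n hn => by rwa [one_mul]
      add_mem' := fun {a b} ha hb n hn => by rw [add_mul]; exact N.add_mem (ha _ hn) (hb _ hn)
      zero_mem' := fun n _ => by rw [zero_mul]; exact N.zero_mem
      algebraMap_mem' := fun r n hn => by rw [← Algebra.smul_def]; exact N.smul_mem r hn }
  let f : A' →ₐ[R] Module.End R N :=
    AlgHom.ofLinearMap
      { toFun := fun x => (LinearMap.mulLeft R (x : A)).restrict x.prop
        map_add' := fun x y => by ext n; exact add_mul (x : A) y n
        map_smul' := fun r s => by ext n; exact smul_mul_assoc r (s : A) n }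
      (by ext n; exact one_mul (n : A))
      (fun x y => by ext n; exact mul_assoc (x : A) y n)
  have hf : Function.Injective f := by
    rw [injective_iff_map_eq_zero]
    intro s hs
    have h0 : (s : A) * a = 0 := congrArg Subtype.val (LinearMap.congr_fun hs ⟨a, haN⟩)
    exact Subtype.ext (ha.mul_left_eq_zero.1 h0)
  change IsIntegral R (A'.val ⟨x, hx⟩)
  rw [isIntegral_algHom_iff A'.val Subtype.val_injective]
  refine (@isIntegral_algHom_iff R _ A' (Module.End R N) _ _ _ _ f hf _).1 ?_
  haveI : Module.Finite R N := Module.Finite.iff_fg.2 hN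
  apply Algebra.IsIntegral.isIntegral

variable {K : Type u} {L : Type v} [Field K] [CommRing L] (j : K →+* L) (B : Subring L)
  [IsNoetherianRing B] (hB : ∀ z : L, IsIntegral B z → z ∈ B)

include hB in
/-- `q ≠ 0` and `q yⁿ ∈ V` for all `n` force `y ∈ V`. -/
theorem mem_of_almostIntegral {y q : K} (hq : q ≠ 0) (h : ∀ n : ℕ, y ^ n * q ∈ B.comap j) :
    y ∈ B.comap j := by
  let S : Set L := Set.range fun n : ℕ => j (y ^ n * q)
  have hS : Submodule.span B S ≤ (1 : Submodule B L) := by
    refine Submodule.span_le.2 ?_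
    rintro _ ⟨n, rfl⟩
    exact Submodule.mem_one.2 ⟨⟨_, h n⟩, rfl⟩
  have h1 : (1 : Submodule B L).FG := by
    rw [Submodule.one_eq_span]
    exact Submodule.fg_span_singleton _
  haveI : IsNoetherian B (1 : Submodule B L) := isNoetherian_of_fg_of_noetherian _ h1
  have hfg : (Submodule.span B S).FG := by
    have h2 := IsNoetherian.noetherian ((Submodule.span B S).comap (1 : Submodule B L).subtype)
    have h3 := h2.map (1 : Submodule B L).subtype
    rwa [Submodule.map_comap_subtype, inf_eq_right.2 hS] at h3
  refine hB (j y) (isIntegral_of_unit_mem _ hfg ((isUnit_iff_ne_zero.2 hq).map j)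
    (Submodule.subset_span ⟨0, by simp⟩) _ ?_)
  intro n hn
  induction hn using Submodule.span_induction with
  | mem z hz =>
    obtain ⟨k, rfl⟩ := hz
    exact Submodule.subset_span ⟨k + 1, by simp [pow_succ']; ring⟩
  | zero => rw [mul_zero]; exact zero_mem _
  | add a b _ _ ha hb => rw [mul_add]; exact add_mem ha hb
  | smul r a _ ha => rw [mul_smul_comm]; exact Submodule.smul_mem _ r ha

include hB in
/-- Outside `V`, there is a height one prime with principal localisation. -/
theorem exists_prime (hfrac : ∀ x : K, ∃ b : B.comap j, (b : K) ≠ 0 ∧ (b : K) * x ∈ B.comap j)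
    {x : K} (hx : x ∉ B.comap j) :
    ∃ P : Ideal (B.comap j), P.IsPrime ∧ P ≠ ⊥ ∧
      (∀ v : B.comap j, (v : K) * x ∈ B.comap j → v ∈ P) ∧
      (∃ π u : B.comap j, π ∈ P ∧ u ∉ P ∧ ∀ p ∈ P, ∃ w, u * p = π * w) ∧
      ∀ q : Ideal (B.comap j), q.IsPrime → q ≤ P → q ≠ P → q = ⊥ := by
  let J : K → Ideal B := fun y =>
    { carrier := {β | (β : L) * j y ∈ B}
      add_mem' := fun {a b} ha hb => by
        change ((a + b : B) : L) * j y ∈ B
        rw [Subring.coe_add, add_mul]
        exact B.add_mem ha hb
      zero_mem' := by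
        change ((0 : B) : L) * j y ∈ B
        rw [Subring.coe_zero, zero_mul]
        exact B.zero_mem
      smul_mem' := fun c {a} ha => by
        change ((c * a : B) : L) * j y ∈ B
        rw [Subring.coe_mul, mul_assoc]
        exact B.mul_mem c.2 ha }
  let T : Set (Ideal B) :=
    {I | ∃ r : B.comap j, (r : K) * x ∉ B.comap j ∧ I = J ((r : K) * x)}
  obtain ⟨I, ⟨r, hr, rfl⟩, hmax⟩ := set_has_maximal_iff_noetherian.2 inferInstance T
    ⟨J ((1 : B.comap j) * x), 1, by simpa using hx, rfl⟩
  set y := (r : K) * x with hy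
  let P : Ideal (B.comap j) :=
    { carrier := {v | (v : K) * y ∈ B.comap j}
      add_mem' := fun {a b} ha hb => by
        change ((a + b : B.comap j) : K) * y ∈ B.comap j
        rw [Subring.coe_add, add_mul]
        exact add_mem ha hb
      zero_mem' := by
        change ((0 : B.comap j) : K) * y ∈ B.comap j
        rw [Subring.coe_zero, zero_mul]
        exact zero_mem _
      smul_mem' := fun c {a} ha => by
        change ((c * a : B.comap j) : K) * y ∈ B.comap j
        rw [Subring.coe_mul, mul_assoc]
        exact mul_mem c.2 ha }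
  have memP : ∀ v : B.comap j, v ∈ P ↔ (v : K) * y ∈ B.comap j := fun v => Iff.rfl
  have hP : P.IsPrime := by
    refine ⟨fun h => hr ?_, fun {s t} hst => or_iff_not_imp_left.2 fun hs => ?_⟩
    · have h1 : (1 : B.comap j) ∈ P := h ▸ Submodule.mem_top
      simpa [memP] using h1
    · rw [memP] at hs hst
      have hle : J y ≤ J ((s : K) * y) := by
        intro β hβ
        change (β : L) * j ((s : K) * y) ∈ B
        rw [map_mul, mul_left_comm]
        exact B.mul_mem s.2 hβ
      have hmem : J ((s : K) * y) ∈ T := by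
        refine ⟨s * r, ?_, ?_⟩ <;> simp only [Subring.coe_mul, mul_assoc]
        · exact hs
        · rfl
      have heq : J y = J ((s : K) * y) := by
        by_contra hne
        exact hmax _ hmem (lt_of_le_of_ne hle hne)
      have h2 : (⟨j t, t.2⟩ : B) ∈ J ((s : K) * y) := by
        change j (t : K) * j ((s : K) * y) ∈ B
        rw [← map_mul, show (t : K) * ((s : K) * y) = ((s * t : B.comap j) : K) * y by
          push_cast; ring]
        exact hst
      rw [← heq] at h2
      rw [memP]
      change j ((t : K) * y) ∈ B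
      rw [map_mul]
      exact h2
  obtain ⟨b, hb0, hb⟩ := hfrac y
  have hbP : b ∈ P := hb
  have hne : P ≠ ⊥ := fun h => hb0 (by rw [h, Submodule.mem_bot] at hbP; simp [hbP])
  obtain ⟨π, hπ, u, hu, huy⟩ : ∃ π ∈ P, ∃ u : B.comap j, u ∉ P ∧ (π : K) * y = u := by
    by_contra hcon
    push Not at hcon
    apply hr
    let φ : B.comap j →+* B :=
      { toFun := fun v => ⟨j v, v.2⟩
        map_one' := Subtype.ext (map_one j)
        map_mul' := fun a b => Subtype.ext (map_mul j _ _)
        map_zero' := Subtype.ext (map_zero j)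
        map_add' := fun a b => Subtype.ext (map_add j _ _) }
    let N : Submodule B L := Submodule.map (Algebra.linearMap B L) (P.map φ : Submodule B B)
    refine hB (j y) (isIntegral_of_unit_mem N ((IsNoetherian.noetherian (P.map φ)).map _)
      ((isUnit_iff_ne_zero.2 hb0).map j) ⟨φ b, Ideal.mem_map_of_mem φ hbP, rfl⟩ _ ?_)
    rintro n ⟨β, hβ, rfl⟩
    induction hβ using Submodule.span_induction with
    | mem z hz =>
      obtain ⟨p, hp, rfl⟩ := hz
      have hpy : (p : K) * y ∈ B.comap j := (memP p).1 hp
      have hpP : (⟨_, hpy⟩ : B.comap j) ∈ P := not_not.1 fun h => hcon p hp ⟨_, hpy⟩ h rfl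
      refine ⟨φ ⟨_, hpy⟩, Ideal.mem_map_of_mem φ hpP, ?_⟩
      change j ((p : K) * y) = j y * j p
      rw [map_mul, mul_comm]
    | zero => simp
    | add a b _ _ ha hb => rw [map_add, mul_add]; exact add_mem ha hb
    | smul c a _ ha =>
      rw [map_smul, mul_smul_comm]
      exact N.smul_mem c ha
  refine ⟨P, hP, hne, fun v hv => ?_, ⟨π, u, hπ, hu, fun p hp => ⟨⟨_, (memP p).1 hp⟩, ?_⟩⟩, ?_⟩
  · rw [memP, hy, mul_left_comm]
    exact mul_mem r.2 hv
  · apply Subtype.ext
    push_cast
    rw [← huy]
    ring
  · intro q hq hqP hqne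
    have hπq : π ∉ q := by
      intro hπq
      refine hqne (le_antisymm hqP fun p hp => ?_)
      have h1 : u * p ∈ q := by
        have e : u * p = π * ⟨_, (memP p).1 hp⟩ := Subtype.ext (by push_cast; rw [← huy]; ring)
        rw [e]
        exact q.mul_mem_right _ hπq
      exact (hq.mem_or_mem h1).resolve_left fun h => hu (hqP h)
    rw [eq_bot_iff]
    intro q0 hq0
    by_contra hne0
    have hne0' : (q0 : K) ≠ 0 := fun h => hne0 (Subtype.ext h)
    have hall : ∀ n : ℕ, ∃ w : B.comap j, w ∈ q ∧ (w : K) = y ^ n * q0 := by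
      intro n
      induction n with
      | zero => exact ⟨q0, hq0, by simp⟩
      | succ n ih =>
        obtain ⟨w, hw, hwe⟩ := ih
        refine ⟨⟨_, (memP w).1 (hqP hw)⟩, ?_, by rw [pow_succ]; simp [hwe]; ring⟩
        have h1 : π * ⟨_, (memP w).1 (hqP hw)⟩ ∈ q := by
          have e : π * ⟨_, (memP w).1 (hqP hw)⟩ = u * w :=
            Subtype.ext (by push_cast; rw [← huy]; ring)
          rw [e]
          exact q.mul_mem_left _ hw
        exact (hq.mem_or_mem h1).resolve_left hπq
    refine hr (mem_of_almostIntegral j B hB hne0' fun n => ?_)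
    obtain ⟨w, -, hwe⟩ := hall n
    exact hwe ▸ w.2

include hB in
/-- If `V` has exactly one nonzero prime, it is a discrete valuation ring. -/
theorem isDVR (hfrac : ∀ x : K, ∃ b : B.comap j, (b : K) ≠ 0 ∧ (b : K) * x ∈ B.comap j)
    {x : K} (hx : x ∉ B.comap j)
    (huniq : ∀ p q : Ideal (B.comap j), p.IsPrime → q.IsPrime → p ≠ ⊥ → q ≠ ⊥ → p = q) :
    IsDiscreteValuationRing (B.comap j) := by
  obtain ⟨P, hP, hne, -, ⟨π, u, hπ, hu, hprin⟩, -⟩ := exists_prime j B hB hfrac hx
  have hmax : ∀ m : Ideal (B.comap j), m.IsMaximal → m = P := fun m hm => by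
    refine huniq m P hm.isPrime hP ?_ hne
    rintro rfl
    exact hne (hm.eq_of_le hP.ne_top bot_le).symm
  haveI : IsLocalRing (B.comap j) := by
    refine IsLocalRing.of_unique_max_ideal ⟨P, ?_, hmax⟩
    obtain ⟨m, hm, hle⟩ := Ideal.exists_le_maximal P hP.ne_top
    exact hmax m hm ▸ hm
  have hPmax : P = IsLocalRing.maximalIdeal (B.comap j) :=
    (hmax _ (IsLocalRing.maximalIdeal.isMaximal _)).symm
  have huu : IsUnit u := by
    by_contra h
    exact hu (hPmax ▸ (IsLocalRing.mem_maximalIdeal u).2 h)
  have hspan : P = Ideal.span {π} := by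
    refine le_antisymm (fun p hp => ?_) (Ideal.span_le.2 (by simpa using hπ))
    obtain ⟨w, hw⟩ := hprin p hp
    rw [Ideal.mem_span_singleton]
    exact huu.dvd_mul_left.1 ⟨w, hw⟩
  haveI : IsNoetherianRing (B.comap j) := IsNoetherianRing.of_prime_ne_bot fun I hI hI0 => by
    rw [huniq I P hI hP hI0 hne, hspan]
    exact Submodule.fg_span_singleton _
  have hnf : ¬ IsField (B.comap j) := fun h =>
    hne (hPmax.trans (IsLocalRing.isField_iff_maximalIdeal_eq.1 h))
  have h := ((IsDiscreteValuationRing.TFAE (B.comap j) hnf).out 0 4).2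
  exact h ⟨⟨π, hPmax ▸ hspan⟩⟩

end Groth.Agent.H25.MoriNagata
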