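import Groth.Agent.Lib.Cohen.Unramified
import Mathlib.RingTheory.Ideal.MinimalPrime.Localization
import Mathlib.RingTheory.Ideal.MinimalPrime.Noetherian
import Mathlib.RingTheory.Flat.FaithfullyFlat.Algebra
import Mathlib.RingTheory.AdicCompletion.AsTensorProduct
import Mathlib.RingTheory.Polynomial.ScaleRoots
import Mathlib.RingTheory.Localization.FractionRing
import Mathlib.RingTheory.Flat.TorsionFree

/-!
# The normalisation of a local domain inside that of its completion
-/

set_option linter.style.haveILetI false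

universe u

open IsLocalRing Polynomial

open scoped TensorProduct nonZeroDivisors

namespace Groth.Agent.H25.MoriNagata

section general

variable {A : Type u} [CommRing A] [IsDomain A] {R : Type u} [CommRing R] [Algebra A R]
  [Module.FaithfullyFlat A R]

variable (R) in
/-- the product of the residue fields at the minimal primes -/
abbrev Tot : Type u :=
  ∀ p : minimalPrimes R, FractionRing (R ⧸ (p.1 : Ideal R))

instance (p : minimalPrimes R) : (p.1 : Ideal R).IsPrime := p.2.1.1

theorem algebraMap_tot_eq_zero_iff {r : R} : algebraMap R (Tot R) r = 0 ↔ IsNilpotent r := by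
  rw [← mem_nilradical, nilradical, ← Ideal.sInf_minimalPrimes, Ideal.mem_sInf]
  constructor
  · intro h p hp
    have h1 : algebraMap R (FractionRing (R ⧸ p)) r = 0 := congrFun h ⟨p, hp⟩
    haveI : p.IsPrime := hp.1.1
    rw [IsScalarTower.algebraMap_apply R (R ⧸ p) (FractionRing (R ⧸ p))] at h1
    exact Ideal.Quotient.eq_zero_iff_mem.1
      ((map_eq_zero_iff _ (IsFractionRing.injective (R ⧸ p) _)).1 h1)
  · intro h
    funext p
    rw [Pi.algebraMap_apply, IsScalarTower.algebraMap_apply R (R ⧸ (p.1 : Ideal R)),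
      Ideal.Quotient.algebraMap_eq, Ideal.Quotient.eq_zero_iff_mem.2 (h p.2), map_zero]
    rfl

theorem isUnit_tot (a : A⁰) : IsUnit (algebraMap R (Tot R) (algebraMap A R a)) := by
  suffices h : ∀ p : minimalPrimes R, (algebraMap R (Tot R) (algebraMap A R a)) p ≠ 0 by
    refine IsUnit.of_mul_eq_one (b := fun p => ((algebraMap R (Tot R) (algebraMap A R a)) p)⁻¹) ?_
    funext p
    rw [Pi.mul_apply, mul_inv_cancel₀ (h p)]
    rfl
  intro p h
  rw [Pi.algebraMap_apply, IsScalarTower.algebraMap_apply R (R ⧸ (p.1 : Ideal R))] at h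
  have h1 := Ideal.Quotient.eq_zero_iff_mem.1
    ((map_eq_zero_iff _ (IsFractionRing.injective (R ⧸ (p.1 : Ideal R)) _)).1 h)
  refine Set.disjoint_left.1 (Ideal.disjoint_nonZeroDivisors_of_mem_minimalPrimes p.2) h1 ?_
  have hreg : IsSMulRegular R (a : A) :=
    Module.Flat.isSMulRegular_of_isRegular (IsRegular.of_ne_zero (nonZeroDivisors.coe_ne_zero a))
  refine mem_nonZeroDivisors_iff_right.2 fun x hx => hreg ?_
  simp only [Algebra.smul_def, mul_zero]
  rw [mul_comm]
  exact hx

variable (A R) in
/-- `K → L` -/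
noncomputable def toTot : FractionRing A →+* Tot R :=
  IsLocalization.lift (M := A⁰) (g := (algebraMap R (Tot R)).comp (algebraMap A R)) isUnit_tot

theorem toTot_algebraMap (a : A) :
    toTot A R (algebraMap A (FractionRing A) a) = algebraMap R (Tot R) (algebraMap A R a) :=
  IsLocalization.lift_eq _ a

theorem isIntegral_of_toTot {x : FractionRing A} (h : IsIntegral R (toTot A R x)) :
    IsIntegral A x := by
  obtain ⟨⟨a, b⟩, hab⟩ := IsLocalization.surj A⁰ x
  obtain ⟨f, hf, hfx⟩ := h
  set φ := algebraMap R (Tot R) with hφ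
  set ι := algebraMap A R with hι
  have ha : φ (ι b) * toTot A R x = φ (ι a) := by
    rw [← toTot_algebraMap, ← toTot_algebraMap, ← map_mul, mul_comm, hab]
  have he : φ ((f.scaleRoots (ι b)).eval (ι a)) = 0 := by
    have h1 := scaleRoots_eval₂_mul (p := f) φ (toTot A R x) (ι b)
    rw [hfx, mul_zero, ha] at h1
    rw [← h1, ← Polynomial.eval₂_id, Polynomial.hom_eval₂, RingHom.comp_id]
  obtain ⟨m, hm⟩ := algebraMap_tot_eq_zero_iff.1 he
  rcases subsingleton_or_nontrivial R with hR | hR
  · haveI := hR
    haveI : Subsingleton A := Function.Injective.subsingleton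
      (FaithfulSMul.algebraMap_injective A R)
    exact absurd (Subsingleton.elim (0 : A) 1) zero_ne_one
  set g := f ^ m with hg
  have hgm : g.Monic := hf.pow m
  have hge : (g.scaleRoots (ι b)).eval (ι a) = 0 := by
    rw [hg, pow_scaleRoots' f (ι b) m (by simp [hf.leadingCoeff]), eval_pow, hm]
  set N := g.natDegree with hN
  have hmon : (g.scaleRoots (ι b)).Monic := (monic_scaleRoots_iff _).2 hgm
  rw [eval_eq_sum_range, natDegree_scaleRoots, Finset.sum_range_succ] at hge
  simp only [coeff_scaleRoots, Nat.sub_self, pow_zero, mul_one, ← hN] at hge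
  rw [show g.coeff N = 1 from hgm, one_mul] at hge
  let v : Fin N → A := fun k => (b : A) ^ (N - k) * a ^ (k : ℕ)
  have hmem : ι (a ^ N) ∈ (Ideal.span (Set.range v)).map ι := by
    rw [map_pow, eq_neg_of_add_eq_zero_right hge, neg_mem_iff]
    refine Ideal.sum_mem _ fun k hk => ?_
    rw [mul_assoc, ← map_pow, ← map_pow, ← map_mul]
    exact Ideal.mul_mem_left _ _ (Ideal.mem_map_of_mem ι
      (Ideal.subset_span ⟨⟨k, Finset.mem_range.1 hk⟩, rfl⟩))
  have hmem2 : a ^ N ∈ Ideal.span (Set.range v) := by
    rw [← Ideal.comap_map_eq_self_of_faithfullyFlat (B := R) (Ideal.span (Set.range v))]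
    exact hmem
  rw [Ideal.span, Submodule.mem_span_range_iff_exists_fun] at hmem2
  obtain ⟨c, hc⟩ := hmem2
  refine ⟨X ^ N - ∑ k : Fin N, C (c k) * X ^ (k : ℕ),
    (monic_X_pow N).sub_of_left ?_, ?_⟩
  · rw [degree_X_pow]
    exact degree_sum_fin_lt c
  · rw [eval₂_sub, eval₂_X_pow, eval₂_finsetSum, sub_eq_zero]
    have hb : algebraMap A (FractionRing A) b ≠ 0 := (IsLocalization.map_units _ b).ne_zero
    refine mul_right_cancel₀ (pow_ne_zero N hb) ?_
    rw [← mul_pow, hab, ← map_pow, ← hc, map_sum, Finset.sum_mul]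
    refine Finset.sum_congr rfl fun k _ => ?_
    simp only [v, smul_eq_mul, map_mul, map_pow, eval₂_mul, eval₂_C, eval₂_X_pow]
    rw [← hab, mul_pow, show algebraMap A (FractionRing A) b ^ N =
      algebraMap A (FractionRing A) b ^ (N - k : ℕ) * algebraMap A (FractionRing A) b ^ (k : ℕ) by
        rw [← pow_add, Nat.sub_add_cancel k.2.le]]
    ring

theorem isIntegral_toTot_iff {x : FractionRing A} :
    IsIntegral R (toTot A R x) ↔ IsIntegral A x := by
  refine ⟨isIntegral_of_toTot, fun ⟨f, hf, hfx⟩ => ⟨f.map (algebraMap A R), hf.map _, ?_⟩⟩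
  have e : (algebraMap R (Tot R)).comp (algebraMap A R) =
      (toTot A R).comp (algebraMap A (FractionRing A)) :=
    RingHom.ext fun a => (toTot_algebraMap a).symm
  rw [eval₂_map, e, ← hom_eval₂, hfx, map_zero]

/-- The key consequence of `K → L` having nilpotent kernel after `⊗ R`. -/
theorem sum_tmul_isNilpotent (S : Subalgebra A (FractionRing A)) {n : ℕ} (r : Fin n → R)
    (c : Fin n → S) (x : S)
    (h : toTot A R x = ∑ k, algebraMap R (Tot R) (r k) * toTot A R (c k)) :
    IsNilpotent (x ⊗ₜ[A] (1 : R) - ∑ k, c k ⊗ₜ[A] r k : S ⊗[A] R) := by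
  classical
  obtain ⟨b, hb⟩ := IsLocalization.exist_integer_multiples_of_finset A⁰
    (insert (x : FractionRing A) (Finset.univ.image fun k => (c k : FractionRing A)))
  obtain ⟨a, ha⟩ := hb _ (Finset.mem_insert_self _ _)
  have hc := fun k => hb (c k : FractionRing A)
    (Finset.mem_insert_of_mem (Finset.mem_image_of_mem _ (Finset.mem_univ k)))
  choose d hd using hc
  set e : R := algebraMap A R a - ∑ k, r k * algebraMap A R (d k) with hedef
  have he : algebraMap R (Tot R) e = 0 := by
    rw [hedef, map_sub, map_sum, ← toTot_algebraMap, ha, Algebra.smul_def, map_mul, h, Finset.mul_sum,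
      ← Finset.sum_sub_distrib]
    refine Finset.sum_eq_zero fun k _ => ?_
    rw [map_mul, ← toTot_algebraMap, hd, Algebra.smul_def, map_mul]
    ring
  obtain ⟨m, hm⟩ := algebraMap_tot_eq_zero_iff.1 he
  refine ⟨m, ?_⟩
  set z : S ⊗[A] R := x ⊗ₜ[A] (1 : R) - ∑ k, c k ⊗ₜ[A] r k
  have hbz : (b : A) • z = (1 : S) ⊗ₜ[A] e := by
    rw [smul_sub, Finset.smul_sum, hedef, TensorProduct.tmul_sub, TensorProduct.tmul_sum]
    congr 1
    · rw [TensorProduct.smul_tmul', Algebra.algebraMap_eq_smul_one, ← TensorProduct.smul_tmul]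
      congr 1
      apply Subtype.ext
      change (b : A) • (x : FractionRing A) = a • (1 : FractionRing A)
      rw [← ha, Algebra.algebraMap_eq_smul_one]
    · refine Finset.sum_congr rfl fun k _ => ?_
      rw [TensorProduct.smul_tmul', mul_comm (r k), ← Algebra.smul_def, ← TensorProduct.smul_tmul]
      congr 1
      apply Subtype.ext
      change (b : A) • (c k : FractionRing A) = d k • (1 : FractionRing A)
      rw [← hd, Algebra.algebraMap_eq_smul_one]
  have hreg : Function.Injective fun w : S ⊗[A] R => ((b : A) ^ m) • w := by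
    have h1 : Function.Injective (LinearMap.lsmul A S ((b : A) ^ m)) := fun u v huv => by
      have h2 : algebraMap A (FractionRing A) ((b : A) ^ m) * (u : FractionRing A) =
          algebraMap A (FractionRing A) ((b : A) ^ m) * (v : FractionRing A) := by
        rw [← Algebra.smul_def, ← Algebra.smul_def]
        exact congrArg Subtype.val huv
      refine Subtype.ext (mul_left_cancel₀ ?_ h2)
      rw [map_pow]
      exact pow_ne_zero _ (IsLocalization.map_units _ b).ne_zero
    have h3 := Module.Flat.rTensor_preserves_injective_linearMap (M := R) _ h1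
    intro u v huv
    refine h3 ?_
    have e : ∀ w : S ⊗[A] R, (LinearMap.lsmul A S ((b : A) ^ m)).rTensor R w = (b : A) ^ m • w := by
      intro w
      induction w using TensorProduct.induction_on with
      | zero => simp
      | tmul p q => rw [LinearMap.rTensor_tmul, TensorProduct.smul_tmul']; rfl
      | add p q hp hq => rw [map_add, hp, hq, smul_add]
    rw [e, e]
    exact huv
  apply hreg
  simp only [smul_zero, ← smul_pow, hbz, Algebra.TensorProduct.tmul_pow, one_pow, hm,
    TensorProduct.tmul_zero]

end general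

section complete

variable (A : Type u) [CommRing A] [IsDomain A] [IsLocalRing A] [IsNoetherianRing A]

/-- the completion -/
abbrev Compl : Type u := AdicCompletion (maximalIdeal A) A

theorem finite_integralClosure : Module.Finite (Compl A) (integralClosure (Compl A) (Tot (Compl A))) := by
  obtain ⟨hnoeth, hN2⟩ := Groth.Agent.Lib.Cohen.Unramified.isNagata_completion A
  haveI := hnoeth
  have hfin : ∀ p : minimalPrimes (Compl A), Module.Finite (Compl A)
      (integralClosure (Compl A ⧸ (p.1 : Ideal (Compl A)))
        (FractionRing (Compl A ⧸ (p.1 : Ideal (Compl A))))) := by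
    intro p
    haveI := hN2 p.1 (FractionRing (Compl A ⧸ (p.1 : Ideal (Compl A)))) inferInstance
    exact Module.Finite.trans (Compl A ⧸ (p.1 : Ideal (Compl A))) _
  haveI : Finite (minimalPrimes (Compl A)) := (minimalPrimes.finite_of_isNoetherianRing _).to_subtype
  let Φ : integralClosure (Compl A) (Tot (Compl A)) →ₗ[Compl A]
      ∀ p : minimalPrimes (Compl A), integralClosure (Compl A ⧸ (p.1 : Ideal (Compl A)))
        (FractionRing (Compl A ⧸ (p.1 : Ideal (Compl A)))) :=
    LinearMap.pi fun p =>
      { toFun := fun z => ⟨(z : Tot (Compl A)) p,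
          ((z.2 : IsIntegral (Compl A) (z : Tot (Compl A))).map (Pi.evalAlgHom (Compl A) _ p)).tower_top⟩
        map_add' := fun _ _ => rfl
        map_smul' := fun _ _ => rfl }
  exact Module.Finite.of_injective Φ fun z w h =>
    Subtype.ext (funext fun p => congrArg Subtype.val (congrFun h p))

end complete

end Groth.Agent.H25.MoriNagata
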