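import Groth.Agent.H25.MoriNagata.Colon
import Groth.Agent.H25.MoriNagata.Model
import Mathlib.RingTheory.Ideal.GoingUp
import Mathlib.FieldTheory.IsAlgClosed.AlgebraicClosure
import Mathlib.RingTheory.Valuation.ValuationSubring
import Mathlib.RingTheory.Ideal.Height

/-!
# Mori–Nagata for a Noetherian local domain
-/

set_option linter.style.haveILetI false

universe u

open IsLocalRing

open scoped TensorProduct nonZeroDivisors

namespace Groth.Agent.H25.MoriNagata

/-- A point of the bigger ring above a given point with values in an algebraically closed field. -/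
theorem exists_extension {C A' Ω : Type u} [CommRing C] [CommRing A'] [Algebra C A']
    [Algebra.IsIntegral C A'] [Field Ω] [IsAlgClosed Ω] (ψ : C →+* Ω) (P : Ideal A') [P.IsPrime]
    (h : P.comap (algebraMap C A') = RingHom.ker ψ) :
    ∃ φ : A' →+* Ω, φ.comp (algebraMap C A') = ψ ∧ RingHom.ker φ = P := by
  let p := RingHom.ker ψ
  haveI : p.IsPrime := RingHom.ker_isPrime ψ
  haveI : P.LiesOver p := ⟨h.symm⟩
  let ψb : C ⧸ p →+* Ω := RingHom.kerLift ψ
  letI := ψb.toAlgebra
  haveI : FaithfulSMul (C ⧸ p) (A' ⧸ P) := by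
    rw [faithfulSMul_iff_algebraMap_injective]
    exact Ideal.quotientMap_injective' h.le
  haveI : FaithfulSMul (C ⧸ p) Ω :=
    (faithfulSMul_iff_algebraMap_injective (C ⧸ p) Ω).2 (RingHom.kerLift_injective ψ)
  haveI : IsScalarTower C (C ⧸ p) (A' ⧸ P) := inferInstance
  haveI : Algebra.IsIntegral (C ⧸ p) (A' ⧸ P) := Algebra.IsIntegral.tower_top (R := C)
  haveI : Algebra.IsAlgebraic (C ⧸ p) (A' ⧸ P) := inferInstance
  let f : A' ⧸ P →ₐ[C ⧸ p] Ω := IsAlgClosed.lift
  refine ⟨f.toRingHom.comp (Ideal.Quotient.mk P), RingHom.ext fun c => ?_, ?_⟩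
  · exact f.commutes (Ideal.Quotient.mk p c)
  · have hbot : RingHom.ker f.toRingHom = ⊥ := by
      haveI : (RingHom.ker f.toRingHom).IsPrime := RingHom.ker_isPrime _
      refine Ideal.eq_bot_of_comap_eq_bot (R := C ⧸ p) ?_
      rw [eq_bot_iff]
      intro c hc
      rw [Ideal.mem_comap, RingHom.mem_ker] at hc
      exact (map_eq_zero_iff _ (RingHom.kerLift_injective ψ)).1 ((f.commutes c).symm.trans hc)
    rw [← RingHom.comap_ker, hbot, ← RingHom.ker_eq_comap_bot, Ideal.mk_ker]

variable (A : Type u) [CommRing A] [IsDomain A] [IsLocalRing A] [IsNoetherianRing A]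

local notation "Kf" => FractionRing A
local notation "Rc" => Compl A
local notation "Lt" => Tot (Compl A)
local notation "Ai" => integralClosure A (FractionRing A)

instance : IsNoetherianRing (Compl A) :=
  (Groth.Agent.Lib.Cohen.Unramified.isNagata_completion A).1

instance : Module.FaithfullyFlat A (Compl A) := Module.FaithfullyFlat.of_flat_of_isLocalHom

/-- the normalisation inside the completion -/
noncomputable abbrev Norm : Subring (Tot (Compl A)) :=
  (integralClosure (Compl A) (Tot (Compl A))).toSubring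

instance : IsNoetherianRing (Norm A) := by
  haveI := finite_integralClosure A
  change IsNoetherianRing (integralClosure (Compl A) (Tot (Compl A)))
  exact IsNoetherianRing.of_finite (Compl A) _

theorem norm_integrallyClosed (z : Lt) (hz : IsIntegral (Norm A) z) : z ∈ Norm A := by
  have hz' : IsIntegral (integralClosure (Compl A) (Tot (Compl A))) z := hz
  exact isIntegral_trans (R := Compl A) z hz'

theorem mem_norm_iff (x : Kf) : toTot A Rc x ∈ Norm A ↔ IsIntegral A x :=
  isIntegral_toTot_iff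

/-- `T` computes every element of the integral closure in reduced `T ⊗ Â`-algebras. -/
def Computes (T : Subalgebra A (FractionRing A)) (hT : T ≤ integralClosure A (FractionRing A)) :
    Prop :=
  ∀ x : integralClosure A (FractionRing A), ∃ z : T ⊗[A] Compl A,
    ∀ (Ω : Type u) [CommRing Ω] [IsReduced Ω] (σ : T ⊗[A] Compl A →+* Ω)
      (φ : integralClosure A (FractionRing A) →+* Ω),
      φ.comp (Subalgebra.inclusion hT).toRingHom = σ.comp (algebraMap T (T ⊗[A] Compl A)) →
        φ x = σ z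

theorem exists_computing : ∃ T : Subalgebra A Kf, Module.Finite A T ∧ ∃ hT : T ≤ Ai,
    Computes A T hT := by
  classical
  haveI := finite_integralClosure A
  haveI : IsNoetherian Rc (integralClosure (Compl A) (Tot (Compl A))).toSubmodule :=
    isNoetherian_of_fg_of_noetherian _ (Module.Finite.iff_fg.1 (finite_integralClosure A))
  set s : Set Lt := toTot A Rc '' (Ai : Set Kf) with hs
  have hle : Submodule.span Rc s ≤ (integralClosure (Compl A) (Tot (Compl A))).toSubmodule := by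
    refine Submodule.span_le.2 ?_
    rintro _ ⟨x, hx, rfl⟩
    exact isIntegral_toTot_iff.2 hx
  have hfg : (Submodule.span Rc s).FG := by
    have h2 := IsNoetherian.noetherian
      ((Submodule.span Rc s).comap (integralClosure (Compl A) (Tot (Compl A))).toSubmodule.subtype)
    have h3 := h2.map (integralClosure (Compl A) (Tot (Compl A))).toSubmodule.subtype
    rwa [Submodule.map_comap_subtype, inf_eq_right.2 hle] at h3
  obtain ⟨s', hs', hspan⟩ := (Submodule.fg_span_iff_fg_span_finset_subset s).1 hfg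
  choose g hg hg' using fun z : s' => hs' z.2
  set T := Algebra.adjoin A (Set.range g) with hTdef
  have hT : T ≤ Ai := Algebra.adjoin_le fun _ ⟨z, hz⟩ => hz ▸ hg z
  refine ⟨T, Module.Finite.iff_fg.2 (fg_adjoin_of_finite (Set.finite_range g)
    (by rintro _ ⟨z, rfl⟩; exact hg z)), hT, fun x => ?_⟩
  letI : Algebra T Ai := (Subalgebra.inclusion hT).toRingHom.toAlgebra
  haveI : IsScalarTower A T Ai := IsScalarTower.of_algebraMap_eq fun a => rfl
  have hx : toTot A Rc (x : Kf) ∈ Submodule.span Rc (s' : Set Lt) :=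
    hspan ▸ Submodule.subset_span ⟨x, x.2, rfl⟩
  rw [Submodule.mem_span_finset'] at hx
  obtain ⟨f, hf⟩ := hx
  let e := (Finset.equivFin s').symm
  let c : Fin s'.card → Ai := fun k => ⟨g (e k), hg _⟩
  have hx' : toTot A Rc (x : Kf) =
      ∑ k, algebraMap Rc Lt (f (e k)) * toTot A Rc (c k : Kf) := by
    rw [← hf, ← e.sum_comp]
    refine Finset.sum_congr rfl fun k _ => ?_
    rw [hg', Algebra.smul_def]
  have hnil := sum_tmul_isNilpotent Ai (fun k => f (e k)) c x hx'
  refine ⟨∑ k, (⟨g (e k), Algebra.subset_adjoin ⟨e k, rfl⟩⟩ : T) ⊗ₜ[A] (f (e k)),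
    fun Ω _ _ σ φ hφ0 => ?_⟩
  let ψ : T →+* Ω := σ.comp (algebraMap T (T ⊗[A] Rc))
  have hφ : φ.comp (algebraMap T Ai) = ψ := hφ0
  let κ : Rc →+* Ω := σ.comp (Algebra.TensorProduct.includeRight : Rc →ₐ[A] T ⊗[A] Rc).toRingHom
  letI : Algebra A Ω := (ψ.comp (algebraMap A T)).toAlgebra
  rw [map_sum]
  let φA : Ai →ₐ[A] Ω := { φ with
    commutes' := fun a => by
      change φ (algebraMap T Ai (algebraMap A T a)) = ψ (algebraMap A T a)
      rw [← hφ]; rfl }
  let κA : Rc →ₐ[A] Ω := { κ with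
    commutes' := fun a => by
      change σ _ = σ _
      congr 1
      exact (Algebra.TensorProduct.includeRight : Rc →ₐ[A] T ⊗[A] Rc).commutes a }
  let Φ : Ai ⊗[A] Rc →ₐ[A] Ω := Algebra.TensorProduct.lift φA κA fun _ _ => Commute.all _ _
  have h0 := (hnil.map Φ).eq_zero
  rw [map_sub, map_sum, sub_eq_zero, Algebra.TensorProduct.lift_tmul, map_one, mul_one] at h0
  rw [show φ x = φA x from rfl, h0]
  refine Finset.sum_congr rfl fun k _ => ?_
  rw [Algebra.TensorProduct.lift_tmul]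
  change φ (c k) * σ ((1 : T) ⊗ₜ[A] f (e k)) = _
  have hc : φ (c k) = ψ ⟨g (e k), Algebra.subset_adjoin ⟨e k, rfl⟩⟩ := by rw [← hφ]; rfl
  rw [hc, RingHom.comp_apply, Algebra.TensorProduct.algebraMap_apply, ← map_mul,
    Algebra.TensorProduct.tmul_mul_tmul, one_mul, mul_one]
  rfl

/-- Computing subalgebras separate the primes of the integral closure. -/
theorem separating_of_computes {T : Subalgebra A Kf} {hT : T ≤ Ai} (hK : Computes A T hT)
    (P Q : Ideal Ai) (hP : P.IsPrime) (hQ : Q.IsPrime)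
    (hPQ : P.comap (Subalgebra.inclusion hT) = Q.comap (Subalgebra.inclusion hT)) : P = Q := by
  haveI : P.IsPrime := hP
  haveI : Q.IsPrime := hQ
  letI : Algebra T Ai := (Subalgebra.inclusion hT).toRingHom.toAlgebra
  haveI : IsScalarTower A T Ai := IsScalarTower.of_algebraMap_eq fun a => rfl
  haveI : Algebra.IsIntegral A Ai := inferInstance
  haveI : Algebra.IsIntegral T Ai := Algebra.IsIntegral.tower_top (R := A)
  let p : Ideal T := P.comap (Subalgebra.inclusion hT)
  haveI hp : p.IsPrime := Ideal.IsPrime.comap _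
  obtain ⟨s₀, hs₀⟩ := PrimeSpectrum.comap_surjective_of_faithfullyFlat (A := T) (B := T ⊗[A] Rc)
    ⟨p, hp⟩
  have hker : s₀.asIdeal.comap (algebraMap T (T ⊗[A] Rc)) = p :=
    congrArg PrimeSpectrum.asIdeal hs₀
  let Ω := AlgebraicClosure (FractionRing ((T ⊗[A] Rc) ⧸ s₀.asIdeal))
  let σ : T ⊗[A] Rc →+* Ω := (algebraMap (FractionRing ((T ⊗[A] Rc) ⧸ s₀.asIdeal)) Ω).comp
    ((algebraMap ((T ⊗[A] Rc) ⧸ s₀.asIdeal) (FractionRing ((T ⊗[A] Rc) ⧸ s₀.asIdeal))).comp
      (Ideal.Quotient.mk s₀.asIdeal))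
  have hσ : RingHom.ker σ = s₀.asIdeal := by
    rw [RingHom.ker_comp_of_injective _ (RingHom.injective _), RingHom.ker_comp_of_injective _
      (IsFractionRing.injective _ _), Ideal.mk_ker]
  let ψ : T →+* Ω := σ.comp (algebraMap T (T ⊗[A] Rc))
  have hψ : RingHom.ker ψ = p := by rw [← RingHom.comap_ker, hσ, hker]
  obtain ⟨φ₁, hφ₁, hkP⟩ := exists_extension ψ P hψ.symm
  obtain ⟨φ₂, hφ₂, hkQ⟩ := exists_extension ψ Q (hψ.trans hPQ).symm
  suffices h : φ₁ = φ₂ by rw [← hkP, ← hkQ, h]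
  refine RingHom.ext fun x => ?_
  obtain ⟨z, hz⟩ := hK x
  rw [hz Ω σ φ₁ hφ₁, hz Ω σ φ₂ hφ₂]

/-- A finite subalgebra separating all primes of the integral closure. -/
theorem exists_separating : ∃ T : Subalgebra A Kf, Module.Finite A T ∧ ∃ hT : T ≤ Ai,
    ∀ P Q : Ideal Ai, P.IsPrime → Q.IsPrime →
      P.comap (Subalgebra.inclusion hT) = Q.comap (Subalgebra.inclusion hT) → P = Q := by
  obtain ⟨T, hfin, hT, hK⟩ := exists_computing A
  exact ⟨T, hfin, hT, separating_of_computes A hK⟩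

/-- At a prime over the maximal ideal, computing subalgebras give all residues. -/
theorem residue_of_computes {T : Subalgebra A Kf} {hT : T ≤ Ai} (hK : Computes A T hT)
    (P : Ideal Ai) [P.IsPrime] (hP : maximalIdeal A ≤ P.comap (algebraMap A Ai)) (x : Ai) :
    ∃ t : T, x - Subalgebra.inclusion hT t ∈ P := by
  let ψ : T →ₐ[A] Ai ⧸ P := (Ideal.Quotient.mkₐ A P).comp (Subalgebra.inclusion hT)
  let χ : A ⧸ maximalIdeal A →ₐ[A] Ai ⧸ P :=
    Ideal.Quotient.liftₐ _ (Algebra.ofId A (Ai ⧸ P)) fun a ha => by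
      change Ideal.Quotient.mk P (algebraMap A Ai a) = 0
      exact Ideal.Quotient.eq_zero_iff_mem.2 (hP ha)
  let σ : T ⊗[A] Rc →ₐ[A] Ai ⧸ P := Algebra.TensorProduct.lift ψ
    (χ.comp (AdicCompletion.evalOneₐ (maximalIdeal A))) fun _ _ => by
      letI : CommRing (Ai ⧸ P) := Ideal.Quotient.commRing P
      exact Commute.all _ _
  haveI : IsReduced (Ai ⧸ P) := inferInstance
  obtain ⟨z, hz⟩ := hK x
  have h1 := hz (Ai ⧸ P) σ.toRingHom (Ideal.Quotient.mk P) (RingHom.ext fun t => by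
    change Ideal.Quotient.mk P (Subalgebra.inclusion hT t) = σ (t ⊗ₜ[A] (1 : Rc))
    rw [Algebra.TensorProduct.lift_tmul, map_one, mul_one]
    rfl)
  have h2 : ∀ z : T ⊗[A] Rc, ∃ t : T, σ z = ψ t := by
    intro z
    induction z using TensorProduct.induction_on with
    | zero => exact ⟨0, by rw [map_zero, map_zero]⟩
    | tmul t r =>
      obtain ⟨a, ha⟩ := Ideal.Quotient.mk_surjective (AdicCompletion.evalOneₐ (maximalIdeal A) r)
      refine ⟨t * algebraMap A T a, ?_⟩
      rw [Algebra.TensorProduct.lift_tmul, map_mul, ψ.commutes]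
      congr 1
      change χ (AdicCompletion.evalOneₐ (maximalIdeal A) r) = _
      rw [← ha]
      rfl
    | add a b ha hb =>
      obtain ⟨t, ht⟩ := ha
      obtain ⟨u, hu⟩ := hb
      exact ⟨t + u, by rw [map_add, map_add, ht, hu]⟩
  obtain ⟨t, ht⟩ := h2 z
  exact ⟨t, (Ideal.Quotient.eq).1 (h1.trans ht)⟩

section parts

variable (T : Subalgebra A (FractionRing A)) [Module.Finite A T]
  (hT : T ≤ integralClosure A (FractionRing A))
  (hsep : ∀ P Q : Ideal (integralClosure A (FractionRing A)), P.IsPrime → Q.IsPrime →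
    P.comap (Subalgebra.inclusion hT) = Q.comap (Subalgebra.inclusion hT) → P = Q)

theorem integral_iff (z : Kf) : IsIntegral T z ↔ IsIntegral A z :=
  ⟨isIntegral_trans z, IsIntegral.tower_top⟩

theorem clear_denominator (x : Kf) : ∃ b : T, (b : Kf) ≠ 0 ∧ IsIntegral A ((b : Kf) * x) := by
  obtain ⟨⟨a, b⟩, hab⟩ := IsLocalization.surj A⁰ x
  refine ⟨algebraMap A T b, (IsLocalization.map_units Kf b).ne_zero, ?_⟩
  change IsIntegral A (algebraMap A Kf b * x)
  rw [mul_comm, hab]
  exact isIntegral_algebraMap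

set_option maxHeartbeats 1000000 in
include hsep in
theorem exists_dvr (p : Ideal T) [hp : p.IsPrime] (hht : p.height = 1) :
    ∃ V : ValuationSubring Kf, IsDiscreteValuationRing V ∧
      ∀ x : Kf, x ∈ V ↔ ∃ s : T, s ∉ p ∧ IsIntegral T ((s : Kf) * x) := by
  classical
  haveI : IsNoetherianRing T := IsNoetherianRing.of_finite A T
  have hint := integral_iff A T
  have hclear := clear_denominator A T
  letI : Algebra T Ai := (Subalgebra.inclusion hT).toRingHom.toAlgebra
  haveI : IsScalarTower A T Ai := IsScalarTower.of_algebraMap_eq fun a => rfl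
  haveI : Algebra.IsIntegral A Ai := inferInstance
  haveI : Algebra.IsIntegral T Ai := Algebra.IsIntegral.tower_top (R := A)
  haveI : FaithfulSMul T Ai := (faithfulSMul_iff_algebraMap_injective T Ai).2
    (Subalgebra.inclusion_injective hT)
  let jR : Kf →+* Lt := toTot A Rc
  have hsame : ∀ P Q : Ideal Ai, P.IsPrime → Q.IsPrime →
      P.comap (algebraMap T Ai) = Q.comap (algebraMap T Ai) → P = Q := hsep
  let S : Submonoid Lt := p.primeCompl.map ((jR.comp T.val.toRingHom : T →+* Lt) : T →* Lt)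
  let B : Subring Lt :=
    { carrier := {l | ∃ s : T, s ∉ p ∧ jR s * l ∈ Norm A}
      one_mem' := ⟨1, fun h => hp.ne_top ((Ideal.eq_top_iff_one p).2 h), by simp⟩
      zero_mem' := ⟨1, fun h => hp.ne_top ((Ideal.eq_top_iff_one p).2 h), by simp⟩
      mul_mem' := fun {a b} ⟨s, hs, ha⟩ ⟨t, ht, hb⟩ => ⟨s * t, fun h => (hp.mem_or_mem h).elim hs ht, by
        rw [Subalgebra.coe_mul, map_mul, mul_mul_mul_comm]; exact (Norm A).mul_mem ha hb⟩
      add_mem' := fun {a b} ⟨s, hs, ha⟩ ⟨t, ht, hb⟩ => ⟨s * t, fun h => (hp.mem_or_mem h).elim hs ht, by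
        have hs' : jR s ∈ Norm A := (mem_norm_iff A _).2 (hT s.2)
        have ht' : jR t ∈ Norm A := (mem_norm_iff A _).2 (hT t.2)
        rw [Subalgebra.coe_mul, map_mul, show jR s * jR t * (a + b) =
          jR t * (jR s * a) + jR s * (jR t * b) by ring]
        exact add_mem (mul_mem ht' ha) (mul_mem hs' hb)⟩
      neg_mem' := fun {a} ⟨s, hs, ha⟩ => ⟨s, hs, by rw [mul_neg]; exact neg_mem ha⟩ }
  have hTB : ∀ s : T, jR s ∈ Norm A := fun s => (mem_norm_iff A _).2 (hT s.2)
  have hNB : Norm A ≤ B := fun l hl =>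
    ⟨1, fun h => hp.ne_top ((Ideal.eq_top_iff_one p).2 h), by simpa using hl⟩
  have hunit : ∀ s : T, s ∉ p → IsUnit (jR s) := fun s hs =>
    (isUnit_iff_ne_zero.2 fun h => hs (by
      rw [show s = 0 from Subtype.ext h]; exact p.zero_mem)).map jR
  letI : Algebra (Norm A) B := (Subring.inclusion hNB).toAlgebra
  let M : Submonoid (Norm A) :=
    { carrier := {m | ∃ s : T, s ∉ p ∧ (m : Lt) = jR s}
      one_mem' := ⟨1, fun h => hp.ne_top ((Ideal.eq_top_iff_one p).2 h), by simp⟩
      mul_mem' := fun {a b} ⟨s, hs, ha⟩ ⟨t, ht, hb⟩ => ⟨s * t, fun h => (hp.mem_or_mem h).elim hs ht, by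
        rw [Subring.coe_mul, ha, hb, Subalgebra.coe_mul, map_mul]⟩ }
  haveI hloc : IsLocalization M B := by
    refine ⟨?_, ?_, ?_⟩
    · rintro ⟨m, s, hs, hm⟩
      obtain ⟨u, hu⟩ := hunit s hs
      refine IsUnit.of_mul_eq_one (b := ⟨(↑u⁻¹ : Lt), s, hs, ?_⟩) ?_
      · rw [← hu, Units.mul_inv]; exact one_mem _
      · apply Subtype.ext
        change (m : Lt) * (↑u⁻¹ : Lt) = 1
        rw [hm, ← hu, Units.mul_inv]
    · rintro ⟨l, s, hs, hl⟩
      exact ⟨(⟨_, hl⟩, ⟨⟨jR s, hTB s⟩, s, hs, rfl⟩), Subtype.ext (mul_comm _ _)⟩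
    · intro a b h
      have hab : (a : Lt) = b := congrArg (fun z : B => (z : Lt)) h
      exact ⟨1, by rw [Subtype.ext hab]⟩
  haveI : IsNoetherianRing B := IsLocalization.isNoetherianRing M B inferInstance
  have hB : ∀ z : Lt, IsIntegral B z → z ∈ B := by
    intro z hz
    haveI : IsScalarTower (Norm A) B Lt := IsScalarTower.of_algebraMap_eq fun _ => rfl
    obtain ⟨⟨m, s, hs, hm⟩, hmz⟩ :=
      hz.exists_multiple_integral_of_isLocalization M (Rₘ := B) z
    refine ⟨s, hs, ?_⟩
    have h1 := norm_integrallyClosed A _ hmz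
    rw [show jR (s : Kf) * z = (m : Lt) * z by rw [hm]]
    exact h1
  have hmem : ∀ x : Kf, x ∈ B.comap jR ↔ ∃ s : T, s ∉ p ∧ IsIntegral A ((s : Kf) * x) := by
    intro x
    refine exists_congr fun s => and_congr_right fun _ => ?_
    rw [← map_mul]
    exact mem_norm_iff A _
  have hAV : ∀ a : Ai, (a : Kf) ∈ B.comap jR := fun a =>
    (hmem _).2 ⟨1, fun h => hp.ne_top ((Ideal.eq_top_iff_one p).2 h), by rw [OneMemClass.coe_one, one_mul]; exact a.2⟩
  let γ : Ai →+* B.comap jR :=
    { toFun := fun a => ⟨a, hAV a⟩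
      map_one' := rfl
      map_mul' := fun _ _ => rfl
      map_zero' := rfl
      map_add' := fun _ _ => rfl }
  have hfrac : ∀ x : Kf, ∃ b : B.comap jR, (b : Kf) ≠ 0 ∧ (b : Kf) * x ∈ B.comap jR := by
    intro x
    obtain ⟨b, hb, hbx⟩ := hclear x
    exact ⟨γ (algebraMap T Ai b), hb, hAV ⟨_, hbx⟩⟩
  have hpne : p ≠ ⊥ := by
    rintro rfl
    rw [Ideal.height_bot] at hht
    exact zero_ne_one hht
  obtain ⟨⟨Q₀, hQ₀p, hQ₀, hQ₀c⟩⟩ : Nonempty {Q : Ideal Ai // ⊥ ≤ Q ∧ Q.IsPrime ∧ Q.comap (algebraMap T Ai) = p} := by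
    obtain ⟨Q, h1, h2, h3⟩ := Ideal.exists_ideal_over_prime_of_isIntegral p (⊥ : Ideal Ai)
      (by rw [← RingHom.ker_eq_comap_bot, (RingHom.injective_iff_ker_eq_bot _).1
        (FaithfulSMul.algebraMap_injective T Ai)]; exact bot_le)
    exact ⟨⟨Q, h1, h2, h3⟩⟩
  obtain ⟨b, hb, hb0⟩ := Submodule.exists_mem_ne_zero_of_ne_bot hpne
  have hbK : (b : Kf) ≠ 0 := fun h => hb0 (Subtype.ext h)
  have hnot : (b : Kf)⁻¹ ∉ B.comap jR := by
    rw [hmem]
    rintro ⟨s, hs, hsb⟩
    apply hs
    have h1 : algebraMap T Ai s = algebraMap T Ai b * ⟨_, hsb⟩ := Subtype.ext (by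
      change (s : Kf) = (b : Kf) * ((s : Kf) * (b : Kf)⁻¹)
      field_simp)
    rw [← hQ₀c, Ideal.mem_comap, h1]
    exact Q₀.mul_mem_right _ (show b ∈ Q₀.comap (algebraMap T Ai) by rw [hQ₀c]; exact hb)
  have hsprime : ∀ q : Ideal (B.comap jR), q.IsPrime → q ≠ ⊥ → q.comap γ = Q₀ := by
    intro q hq hq0
    haveI := hq
    haveI : (q.comap γ).IsPrime := Ideal.IsPrime.comap γ
    refine hsame _ _ inferInstance hQ₀ ?_
    rw [hQ₀c]
    have hle : (q.comap γ).comap (algebraMap T Ai) ≤ p := by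
      intro s hs
      by_contra hsp
      refine hq.ne_top (Ideal.eq_top_of_isUnit_mem _ hs ?_)
      refine IsUnit.of_mul_eq_one (b := ⟨(s : Kf)⁻¹, (hmem _).2 ⟨s, hsp, ?_⟩⟩) ?_
      · rw [mul_inv_cancel₀ (fun h => hsp (by rw [show s = 0 from Subtype.ext h]; exact p.zero_mem))]
        exact isIntegral_one
      · exact Subtype.ext (mul_inv_cancel₀
          (fun h => hsp (by rw [show s = 0 from Subtype.ext h]; exact p.zero_mem)))
    refine le_antisymm hle ?_
    by_contra hlt
    have hlt' : (q.comap γ).comap (algebraMap T Ai) < p := lt_of_le_not_ge hle hlt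
    have hne : (q.comap γ).comap (algebraMap T Ai) ≠ ⊥ := by
      intro h0
      obtain ⟨v, hv, hv0⟩ := Submodule.exists_mem_ne_zero_of_ne_bot hq0
      obtain ⟨s, hs, hsv⟩ := (hmem _).1 v.2
      have h1 : (⟨_, hsv⟩ : Ai) ∈ q.comap γ := by
        rw [Ideal.mem_comap, show γ ⟨_, hsv⟩ = γ (algebraMap T Ai s) * v from Subtype.ext rfl]
        exact q.mul_mem_left _ hv
      have h2 : q.comap γ = ⊥ := Ideal.eq_bot_of_comap_eq_bot h0
      rw [h2, Submodule.mem_bot] at h1
      rcases mul_eq_zero.1 (congrArg Subtype.val h1) with h | h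
      · exact hs (by rw [show s = 0 from Subtype.ext h]; exact p.zero_mem)
      · exact hv0 (Subtype.ext h)
    have h1 := (Ideal.height_le_iff (n := 1)).1 hht.le _ inferInstance hlt'
    rw [Nat.cast_one, ENat.lt_one_iff_eq_zero, Ideal.height_eq_zero_iff,
      IsDomain.minimalPrimes_eq_singleton_bot, Set.mem_singleton_iff] at h1
    exact hne h1
  have huniq : ∀ q q' : Ideal (B.comap jR), q.IsPrime → q'.IsPrime → q ≠ ⊥ → q' ≠ ⊥ → q = q' := by
    intro q q' hq hq' h h'
    haveI := hq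
    haveI := hq'
    ext v
    obtain ⟨s, hs, hsv⟩ := (hmem _).1 v.2
    have hu : ∀ r : Ideal (B.comap jR), r.IsPrime → r ≠ ⊥ → (v ∈ r ↔ (⟨_, hsv⟩ : Ai) ∈ Q₀) := by
      intro r hr hr0
      rw [← hsprime r hr hr0, Ideal.mem_comap, show γ ⟨_, hsv⟩ = γ (algebraMap T Ai s) * v from Subtype.ext rfl]
      refine ⟨fun hv => r.mul_mem_left _ hv, fun hv => (hr.mem_or_mem hv).resolve_left fun hs' => ?_⟩
      apply hs
      have : s ∈ (r.comap γ).comap (algebraMap T Ai) := hs'
      rwa [hsprime r hr hr0, hQ₀c] at this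
    rw [hu q hq h, hu q' hq' h']
  haveI hdvr : IsDiscreteValuationRing (B.comap jR) := isDVR jR B hB hfrac hnot huniq
  refine ⟨⟨B.comap jR, fun x => ?_⟩, hdvr, fun x => ?_⟩
  · by_cases hx : x = 0
    · exact Or.inl (hx ▸ (B.comap jR).zero_mem)
    obtain ⟨c, hc, hcx⟩ := hfrac x
    rcases ValuationRing.cond (⟨_, hcx⟩ : B.comap jR) c with ⟨w, hw | hw⟩
    · right
      have h1 : (c : Kf) * x * w = c := congrArg Subtype.val hw
      have h2 : x * w = 1 := mul_left_cancel₀ hc (by rw [← mul_assoc, h1, mul_one])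
      rw [show x⁻¹ = w from (eq_inv_of_mul_eq_one_right h2).symm ▸ rfl]
      exact w.2
    · left
      have h1 : (c : Kf) * w = c * x := congrArg Subtype.val hw
      rw [← mul_left_cancel₀ hc h1]
      exact w.2
  · change x ∈ B.comap jR ↔ _
    rw [hmem]
    simp only [hint]

include hsep in
theorem mem_of_forall (x : Kf)
    (hx : ∀ (p : Ideal T) [p.IsPrime], p.height = 1 →
      ∃ s : T, s ∉ p ∧ IsIntegral T ((s : Kf) * x)) : x ∈ Ai := by
  classical
  haveI : IsNoetherianRing T := IsNoetherianRing.of_finite A T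
  have hint := integral_iff A T
  have hclear := clear_denominator A T
  letI : Algebra T Ai := (Subalgebra.inclusion hT).toRingHom.toAlgebra
  haveI : IsScalarTower A T Ai := IsScalarTower.of_algebraMap_eq fun a => rfl
  haveI : Algebra.IsIntegral A Ai := inferInstance
  haveI : Algebra.IsIntegral T Ai := Algebra.IsIntegral.tower_top (R := A)
  haveI : FaithfulSMul T Ai := (faithfulSMul_iff_algebraMap_injective T Ai).2
    (Subalgebra.inclusion_injective hT)
  let jR : Kf →+* Lt := toTot A Rc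
  have hsame : ∀ P Q : Ideal Ai, P.IsPrime → Q.IsPrime →
      P.comap (algebraMap T Ai) = Q.comap (algebraMap T Ai) → P = Q := hsep
  by_contra hxA
  haveI : IsNoetherianRing (Norm A) := inferInstance
  have hxV : x ∉ (Norm A).comap jR := fun h => hxA ((mem_norm_iff A x).1 h)
  have hfrac : ∀ y : Kf, ∃ b : (Norm A).comap jR, (b : Kf) ≠ 0 ∧ (b : Kf) * y ∈ (Norm A).comap jR := by
    intro y
    obtain ⟨b, hb, hby⟩ := hclear y
    exact ⟨⟨b, (mem_norm_iff A _).2 (hT b.2)⟩, hb, (mem_norm_iff A _).2 hby⟩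
  obtain ⟨P, hP, hP0, hcol, -, hht⟩ :=
    exists_prime jR (Norm A) (norm_integrallyClosed A) hfrac hxV
  let η : Ai →+* (Norm A).comap jR :=
    { toFun := fun a => ⟨a, (mem_norm_iff A _).2 a.2⟩
      map_one' := rfl
      map_mul' := fun _ _ => rfl
      map_zero' := rfl
      map_add' := fun _ _ => rfl }
  have hηs : Function.Surjective η := fun v => ⟨⟨v, (mem_norm_iff A _).1 v.2⟩, rfl⟩
  haveI := hP
  haveI : (P.comap η).IsPrime := Ideal.IsPrime.comap η
  set p := (P.comap η).comap (algebraMap T Ai) with hpdef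
  have hne : P.comap η ≠ ⊥ := by
    intro h
    apply hP0
    rw [← Ideal.map_comap_of_surjective η hηs P, h, Ideal.map_bot]
  have hp0 : p ≠ ⊥ := fun h => hne (Ideal.eq_bot_of_comap_eq_bot h)
  have hht1 : p.height = 1 := by
    refine le_antisymm ((Ideal.height_le_iff (n := 1)).2 fun q hq hqp => ?_) ?_
    · rw [Nat.cast_one, ENat.lt_one_iff_eq_zero, Ideal.height_eq_zero_iff,
        IsDomain.minimalPrimes_eq_singleton_bot, Set.mem_singleton_iff]
      by_contra hq0
      obtain ⟨Q1, -, hQ1, hQ1c⟩ := Ideal.exists_ideal_over_prime_of_isIntegral q (⊥ : Ideal Ai)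
        (by rw [← RingHom.ker_eq_comap_bot, (RingHom.injective_iff_ker_eq_bot _).1
          (FaithfulSMul.algebraMap_injective T Ai)]; exact bot_le)
      obtain ⟨Q2, hQ12, hQ2, hQ2c⟩ := Ideal.exists_ideal_over_prime_of_isIntegral p Q1
        (hQ1c.trans_le hqp.le)
      have e : Q2 = P.comap η := hsame _ _ hQ2 inferInstance hQ2c
      subst e
      haveI := hQ1
      have hQ1P : Q1.map η ≤ P := Ideal.map_le_iff_le_comap.2 hQ12
      have hker : RingHom.ker η ≤ Q1 := fun a ha => by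
        have : a = 0 := Subtype.ext (congrArg (fun v : (Norm A).comap jR => (v : Kf)) (RingHom.mem_ker.1 ha) :)
        rw [this]; exact zero_mem _
      have hp' := Ideal.map_isPrime_of_surjective hηs hker
      have hne' : Q1.map η ≠ P := by
        intro h
        refine hqp.ne ?_
        rw [← hQ1c, hpdef, ← h, Ideal.comap_map_of_surjective η hηs,
          ← RingHom.ker_eq_comap_bot, sup_eq_left.2 hker]
      have h0 := hht _ hp' hQ1P hne'
      apply hq0
      have hQ10 : Q1 = ⊥ := by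
        rw [eq_bot_iff]
        intro a ha
        have : η a ∈ (⊥ : Ideal _) := h0 ▸ Ideal.mem_map_of_mem η ha
        rw [Submodule.mem_bot] at this
        exact Subtype.ext (congrArg (fun v : (Norm A).comap jR => (v : Kf)) this :)
      rw [← hQ1c, hQ10, ← RingHom.ker_eq_comap_bot, (RingHom.injective_iff_ker_eq_bot _).1
          (FaithfulSMul.algebraMap_injective T Ai)]
    · rw [ENat.one_le_iff_ne_zero, ne_eq, Ideal.height_eq_zero_iff,
        IsDomain.minimalPrimes_eq_singleton_bot, Set.mem_singleton_iff]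
      exact hp0
  obtain ⟨s, hs, hsx⟩ := hx p hht1
  apply hs
  exact hcol (η (algebraMap T Ai s)) ((mem_norm_iff A _).2 ((hint _).1 hsx))

theorem finite_bad (x : Kf) : {p : Ideal T | p.IsPrime ∧ p.height = 1 ∧
    ¬ ∃ s : T, s ∉ p ∧ IsIntegral T ((s : Kf) * x)}.Finite := by
  classical
  haveI : IsNoetherianRing T := IsNoetherianRing.of_finite A T
  have hint := integral_iff A T
  have hclear := clear_denominator A T
  obtain ⟨b, hb, hbx⟩ := hclear x
  refine (Ideal.finite_minimalPrimes_of_isNoetherianRing T (Ideal.span {b})).subset ?_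
  rintro p ⟨hp, hht, hbad⟩
  have hbp : b ∈ p := by
    by_contra h
    exact hbad ⟨b, h, (hint _).2 hbx⟩
  refine ⟨⟨hp, Ideal.span_le.2 (by simpa using hbp)⟩, fun q ⟨hq, hbq⟩ hqp => ?_⟩
  by_contra hne
  haveI := hp
  have h1 := (Ideal.height_le_iff (n := 1)).1 hht.le q hq (lt_of_le_not_ge hqp hne)
  rw [Nat.cast_one, ENat.lt_one_iff_eq_zero, Ideal.height_eq_zero_iff,
    IsDomain.minimalPrimes_eq_singleton_bot, Set.mem_singleton_iff] at h1
  haveI := hq
  rw [h1] at hbq
  refine hb ?_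
  have h2 : b ∈ (⊥ : Ideal T) := hbq (Ideal.mem_span_singleton_self b)
  rw [Submodule.mem_bot] at h2
  rw [h2]
  rfl

end parts

/-- The main structure statement. -/
theorem main : ∃ C : Subalgebra A Kf, Module.Finite A C ∧
      (∀ (p : Ideal C) [p.IsPrime], p.height = 1 →
        ∃ V : ValuationSubring Kf, IsDiscreteValuationRing V ∧
          ∀ x : Kf, x ∈ V ↔ ∃ s : C, s ∉ p ∧ IsIntegral C ((s : Kf) * x)) ∧
      (∀ x : Kf, x ∈ Ai ↔
        ∀ (p : Ideal C) [p.IsPrime], p.height = 1 → ∃ s : C, s ∉ p ∧ IsIntegral C ((s : Kf) * x)) ∧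
      (∀ x : Kf, {p : Ideal C | p.IsPrime ∧ p.height = 1 ∧
        ¬ ∃ s : C, s ∉ p ∧ IsIntegral C ((s : Kf) * x)}.Finite) := by
  obtain ⟨T, hTfin, hT, hsep⟩ := exists_separating A
  haveI := hTfin
  exact ⟨T, hTfin, fun p _ hht => exists_dvr A T hT hsep p hht,
    fun x => ⟨fun hx p _ _ => ⟨1, fun h => Ideal.IsPrime.ne_top ‹_› ((Ideal.eq_top_iff_one p).2 h),
      (integral_iff A T _).2 (by rw [OneMemClass.coe_one, one_mul]; exact hx)⟩,
      mem_of_forall A T hT hsep x⟩,
    finite_bad A T⟩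

end Groth.Agent.H25.MoriNagata
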