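import Groth.Agent.H25.MoriNagata.Main
import Mathlib.RingTheory.Localization.AtPrime.Basic
import Mathlib.RingTheory.Localization.Integral
import Mathlib.LinearAlgebra.Dimension.Finite

/-!
# Integral closures of Noetherian local domains are semilocal
-/

set_option linter.style.haveILetI false

universe u

open IsLocalRing

open scoped nonZeroDivisors

namespace Groth.Agent.H25.MoriNagata

theorem finite_setOf_maximal {A T : Type u} [CommRing A] [IsLocalRing A] [IsNoetherianRing A]
    [CommRing T] [Algebra A T] [Module.Finite A T] : {M : Ideal T | M.IsMaximal}.Finite := by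
  haveI : IsNoetherianRing T := IsNoetherianRing.of_finite A T
  refine (Ideal.finite_minimalPrimes_of_isNoetherianRing T
    ((maximalIdeal A).map (algebraMap A T))).subset fun M hM => ?_
  haveI : M.IsMaximal := hM
  have hc : ∀ N : Ideal T, N.IsMaximal → maximalIdeal A = N.comap (algebraMap A T) := fun N hN => by
    haveI := hN
    exact (IsLocalRing.eq_maximalIdeal (Ideal.isMaximal_comap_of_isIntegral_of_isMaximal N)).symm
  refine ⟨⟨Ideal.IsMaximal.isPrime hM, Ideal.map_le_iff_le_comap.2 (hc M hM).le⟩,
    fun Q ⟨hQ, hmQ⟩ hQM => ?_⟩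
  haveI := hQ
  have : Q.IsMaximal := by
    refine Ideal.isMaximal_of_isIntegral_of_isMaximal_comap (R := A) Q ?_
    rw [← le_antisymm (Ideal.map_le_iff_le_comap.1 hmQ)
      (IsLocalRing.le_maximalIdeal (Ideal.IsPrime.ne_top inferInstance))]
    exact maximalIdeal.isMaximal A
  exact (this.eq_of_le (Ideal.IsMaximal.ne_top hM) hQM).ge

theorem residue_transfer (A : Type u) [CommRing A] [IsNoetherianRing A] (TM : Type u) [CommRing TM]
    [IsLocalRing TM] [Algebra A TM] [Module.Finite A (TM ⧸ maximalIdeal TM)] (B : Type u) [CommRing B]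
    [Algebra TM B] [Algebra.IsIntegral TM B] (n : Ideal B) [n.IsMaximal] [Module.Finite TM (B ⧸ n)]
    {S : Type u} [CommRing S] [Algebra A S] (m : Ideal S) (θ : S →+* B) (hnm : n.comap θ = m)
    (hc : θ.comp (algebraMap A S) = (algebraMap TM B).comp (algebraMap A TM)) :
    Module.Finite A (S ⧸ m) := by
  have hkill : maximalIdeal TM ≤ n.comap (algebraMap TM B) :=
    (IsLocalRing.eq_maximalIdeal
      (Ideal.isMaximal_comap_of_isIntegral_of_isMaximal (R := TM) n)).ge
  letI : Algebra (TM ⧸ maximalIdeal TM) (B ⧸ n) :=
    (Ideal.quotientMap n (algebraMap TM B) hkill).toAlgebra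
  haveI : IsScalarTower TM (TM ⧸ maximalIdeal TM) (B ⧸ n) :=
    IsScalarTower.of_algebraMap_eq fun _ => rfl
  haveI : Module.Finite (TM ⧸ maximalIdeal TM) (B ⧸ n) :=
    Module.Finite.of_restrictScalars_finite TM _ _
  letI : Algebra A (B ⧸ n) := ((algebraMap (TM ⧸ maximalIdeal TM) (B ⧸ n)).comp
    (algebraMap A (TM ⧸ maximalIdeal TM))).toAlgebra
  haveI : IsScalarTower A (TM ⧸ maximalIdeal TM) (B ⧸ n) :=
    IsScalarTower.of_algebraMap_eq fun _ => rfl
  haveI : Module.Finite A (B ⧸ n) := Module.Finite.trans (TM ⧸ maximalIdeal TM) _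
  let j : S ⧸ m →ₐ[A] B ⧸ n :=
    { Ideal.quotientMap n θ hnm.ge with
      commutes' := fun a => by
        change Ideal.Quotient.mk n (θ (algebraMap A S a)) = _
        rw [show θ (algebraMap A S a) = algebraMap TM B (algebraMap A TM a) from RingHom.congr_fun hc a]
        rfl }
  haveI : IsNoetherian A (B ⧸ n) := isNoetherian_of_isNoetherianRing_of_finite A _
  exact Module.Finite.of_injective j.toLinearMap (Ideal.quotientMap_injective' (H := hnm.ge) hnm.le)

/-- The local statement. -/
theorem local_case (A K : Type u) [CommRing A] [IsDomain A] [IsLocalRing A] [IsNoetherianRing A]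
    [Field K] [Algebra A K] [IsFractionRing A K] :
    {m : Ideal (integralClosure A K) | m.IsMaximal}.Finite ∧
      ∀ m : Ideal (integralClosure A K), m.IsMaximal →
        Module.Finite A (integralClosure A K ⧸ m) := by
  let e : integralClosure A (FractionRing A) ≃ₐ[A] integralClosure A K :=
    (FractionRing.algEquiv A K).mapIntegralClosure
  obtain ⟨T, hTfin, hT, hK⟩ := exists_computing A
  haveI := hTfin
  have hmax : ∀ m : Ideal (integralClosure A (FractionRing A)), m.IsMaximal →
      (m.comap (Subalgebra.inclusion hT)).IsMaximal := by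
    intro m hm
    haveI := hm
    letI : Algebra T (integralClosure A (FractionRing A)) :=
      (Subalgebra.inclusion hT).toRingHom.toAlgebra
    haveI : IsScalarTower A T (integralClosure A (FractionRing A)) :=
      IsScalarTower.of_algebraMap_eq fun a => rfl
    haveI : Algebra.IsIntegral A (integralClosure A (FractionRing A)) := inferInstance
    haveI : Algebra.IsIntegral T (integralClosure A (FractionRing A)) :=
      Algebra.IsIntegral.tower_top (R := A)
    exact Ideal.isMaximal_comap_of_isIntegral_of_isMaximal (R := T) m
  constructor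
  · have hinj : Set.InjOn (fun m : Ideal (integralClosure A K) =>
        (m.comap e.toAlgHom).comap (Subalgebra.inclusion hT)) {m | m.IsMaximal} := by
      intro m hm n hn h
      haveI : m.IsMaximal := hm
      haveI : n.IsMaximal := hn
      have h1 := separating_of_computes A hK _ _ (Ideal.IsPrime.comap _) (Ideal.IsPrime.comap _) h
      exact Ideal.comap_injective_of_surjective e.toAlgHom e.surjective h1
    refine Set.Finite.of_finite_image ((finite_setOf_maximal (A := A) (T := T)).subset ?_) hinj
    rintro _ ⟨m, hm, rfl⟩
    haveI : m.IsMaximal := hm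
    exact hmax _ (Ideal.comap_isMaximal_of_surjective e.toAlgHom e.surjective)
  · intro m hm
    haveI := hm
    haveI : Algebra.IsIntegral A (integralClosure A (FractionRing A)) := inferInstance
    haveI hm' : (m.comap e.toAlgHom).IsMaximal :=
      Ideal.comap_isMaximal_of_surjective e.toAlgHom e.surjective
    have hmA : maximalIdeal A ≤
        (m.comap e.toAlgHom).comap (algebraMap A (integralClosure A (FractionRing A))) :=
      (IsLocalRing.eq_maximalIdeal (Ideal.isMaximal_comap_of_isIntegral_of_isMaximal (R := A) _)).ge
    refine Module.Finite.of_surjective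
      ((Ideal.Quotient.mkₐ A m).comp (e.toAlgHom.comp (Subalgebra.inclusion hT))).toLinearMap
      fun y => ?_
    obtain ⟨y, rfl⟩ := Ideal.Quotient.mk_surjective y
    obtain ⟨x, rfl⟩ := e.surjective y
    obtain ⟨t, ht⟩ := residue_of_computes A hK (m.comap e.toAlgHom) hmA x
    refine ⟨t, ?_⟩
    rw [Ideal.mem_comap, map_sub] at ht
    exact ((Ideal.Quotient.eq).2 ht).symm

set_option maxHeartbeats 1000000 in
/-- The statement for a finite extension of the fraction field. -/
theorem semilocal {A K' : Type u} [CommRing A] [IsDomain A] [IsLocalRing A] [IsNoetherianRing A]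
    [Field K'] [Algebra A K'] [Algebra (FractionRing A) K'] [IsScalarTower A (FractionRing A) K']
    [FiniteDimensional (FractionRing A) K'] :
    {m : Ideal (integralClosure A K') | m.IsMaximal}.Finite ∧
      ∀ (m : Ideal (integralClosure A K')), m.IsMaximal →
        Module.Finite A (integralClosure A K' ⧸ m) := by
  classical
  let K := FractionRing A
  let bas := Module.finBasis K K'
  have hmb : ∀ i, ∃ d : A⁰, IsIntegral A (d • bas i) := fun i =>
    IsIntegral.exists_multiple_integral_of_isLocalization (Rₘ := K) _ (bas i)
      (Algebra.IsIntegral.isIntegral _)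
  choose d hd using hmb
  let β := fun i => d i • bas i
  let T := Algebra.adjoin A (Set.range β)
  haveI : Module.Finite A T := Module.Finite.iff_fg.2 (fg_adjoin_of_finite (Set.finite_range β)
    (by rintro _ ⟨i, rfl⟩; exact hd i))
  haveI : IsNoetherianRing T := IsNoetherianRing.of_finite A T
  haveI : Algebra.IsIntegral A T := inferInstance
  haveI : IsFractionRing T K' := by
    refine IsFractionRing.of_field T K' fun z => ?_
    obtain ⟨b, hb⟩ := IsLocalization.exist_integer_multiples_of_finset A⁰
      (Finset.univ.image fun i => bas.repr z i * (algebraMap A K (d i))⁻¹)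
    choose a ha using fun i => hb _ (Finset.mem_image_of_mem _ (Finset.mem_univ i))
    have hz : algebraMap A K' b * z ∈ T := by
      have e : algebraMap A K' b * z = ∑ i, algebraMap A K' (a i) * β i := by
        conv_lhs => rw [← bas.sum_repr z, Finset.mul_sum]
        refine Finset.sum_congr rfl fun i _ => ?_
        have h1 : algebraMap A K (b : A) * bas.repr z i = algebraMap A K (a i) * algebraMap A K (d i) := by
          rw [ha i, Algebra.smul_def, mul_assoc, mul_assoc,
            inv_mul_cancel₀ (IsLocalization.map_units K (d i)).ne_zero, mul_one]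
        rw [Algebra.smul_def, ← mul_assoc, IsScalarTower.algebraMap_apply A K K', ← map_mul, h1,
          map_mul, ← IsScalarTower.algebraMap_apply, ← IsScalarTower.algebraMap_apply]
        change _ = algebraMap A K' (a i) * ((d i : A) • bas i)
        rw [Algebra.smul_def]
        ring
      rw [e]
      exact sum_mem fun i _ => T.mul_mem (T.algebraMap_mem _) (Algebra.subset_adjoin ⟨i, rfl⟩)
    refine ⟨⟨_, hz⟩, algebraMap A T b, ?_⟩
    have hb0 : algebraMap A K' (b : A) ≠ 0 := by
      rw [IsScalarTower.algebraMap_apply A K K']
      exact (map_ne_zero _).2 (IsLocalization.map_units K b).ne_zero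
    change z = algebraMap A K' (b : A) * z / algebraMap A K' (b : A)
    field_simp
  have hint : ∀ x : K', IsIntegral A x ↔ IsIntegral T x :=
    fun x => ⟨IsIntegral.tower_top, isIntegral_trans x⟩
  set Ai := integralClosure A K'
  let incl : T →ₐ[A] Ai := Subalgebra.inclusion (Algebra.adjoin_le (by
    rintro _ ⟨i, rfl⟩; exact hd i))
  letI : Algebra T Ai := incl.toRingHom.toAlgebra
  haveI : IsScalarTower A T Ai := IsScalarTower.of_algebraMap_eq fun a => (incl.commutes a).symm
  haveI : Algebra.IsIntegral A Ai := inferInstance
  haveI : Algebra.IsIntegral T Ai := Algebra.IsIntegral.tower_top (R := A)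
  have key : ∀ M : Ideal T, M.IsMaximal →
      {m : Ideal Ai | m.IsMaximal ∧ m.comap (algebraMap T Ai) = M}.Finite ∧
        ∀ m : Ideal Ai, m.IsMaximal → m.comap (algebraMap T Ai) = M →
          Module.Finite A (Ai ⧸ m) := by
    intro M hM
    haveI := hM
    let TM := Localization.AtPrime M
    letI : Algebra TM K' := (IsLocalization.lift (M := M.primeCompl) (S := TM)
      (g := algebraMap T K') fun s => isUnit_iff_ne_zero.2 fun h => s.2 (by
        rw [show (s : T) = 0 from (map_eq_zero_iff _ (IsFractionRing.injective T K')).1 h]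
        exact M.zero_mem)).toAlgebra
    haveI : IsScalarTower T TM K' :=
      IsScalarTower.of_algebraMap_eq fun t => (IsLocalization.lift_eq _ t).symm
    haveI : IsFractionRing TM K' :=
      IsFractionRing.isFractionRing_of_isDomain_of_isLocalization M.primeCompl TM K'
    haveI : IsDomain TM := inferInstance
    haveI : IsNoetherianRing TM := IsLocalization.isNoetherianRing M.primeCompl TM inferInstance
    obtain ⟨hfin, hres⟩ := local_case TM K'
    let θ : Ai →+* integralClosure TM K' :=
      { toFun := fun x => ⟨x, ((hint _).1 x.2).tower_top⟩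
        map_one' := rfl
        map_mul' := fun _ _ => rfl
        map_zero' := rfl
        map_add' := fun _ _ => rfl }
    have hclear : ∀ b : integralClosure TM K', ∃ s : T, s ∉ M ∧
        ∃ x : Ai, (x : K') = algebraMap T K' s * b := by
      intro b
      obtain ⟨⟨s, hs⟩, hsb⟩ := IsIntegral.exists_multiple_integral_of_isLocalization M.primeCompl
        (b : K') (b.2 : IsIntegral TM (b : K'))
      exact ⟨s, hs, ⟨_, (hint _).2 hsb⟩, (Algebra.smul_def s (b : K'))⟩
    have hunit : ∀ s : T, s ∉ M → IsUnit (θ (algebraMap T Ai s)) := by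
      intro s hs
      refine IsUnit.of_mul_eq_one (b := ⟨algebraMap TM K' (IsLocalization.mk' TM 1
        (⟨s, hs⟩ : M.primeCompl)), isIntegral_algebraMap⟩) (Subtype.ext ?_)
      change algebraMap T K' s * algebraMap TM K' _ = 1
      rw [IsScalarTower.algebraMap_apply T TM K', ← map_mul]
      refine (congrArg (algebraMap TM K') ((IsLocalization.mk'_spec' TM (1 : T) (⟨s, hs⟩ : M.primeCompl)).trans (map_one _))).trans (map_one _)
    have hover : ∀ m : Ideal Ai, m.IsMaximal → m.comap (algebraMap T Ai) = M →
        ∃ n : Ideal (integralClosure TM K'), n.IsMaximal ∧ n.comap θ = m := by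
      intro m hm hmM
      have hne : m.map θ ≠ ⊤ := by
        intro htop
        have h1 : (1 : integralClosure TM K') ∈ m.map θ := htop ▸ Submodule.mem_top
        have h2 : ∀ b ∈ m.map θ, ∃ s : T, s ∉ M ∧ ∃ x ∈ m,
            (x : K') = algebraMap T K' s * (b : K') := by
          intro b hb
          induction hb using Submodule.span_induction with
          | mem z hz =>
            obtain ⟨x, hx, rfl⟩ := hz
            exact ⟨1, fun h => hM.ne_top ((Ideal.eq_top_iff_one M).2 h), x, hx, by simp; rfl⟩
          | zero =>
            exact ⟨1, fun h => hM.ne_top ((Ideal.eq_top_iff_one M).2 h), 0, m.zero_mem, by simp⟩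
          | add a b _ _ ha hb =>
            obtain ⟨s, hs, x, hx, hxe⟩ := ha
            obtain ⟨t, ht, y, hy, hye⟩ := hb
            refine ⟨s * t, fun h => (hM.isPrime.mem_or_mem h).elim hs ht,
              algebraMap T Ai t * x + algebraMap T Ai s * y,
              add_mem (m.mul_mem_left _ hx) (m.mul_mem_left _ hy), ?_⟩
            change algebraMap T K' t * (x : K') + algebraMap T K' s * (y : K') = _
            rw [hxe, hye, map_mul]
            push_cast
            ring
          | smul c a _ ha =>
            obtain ⟨s, hs, x, hx, hxe⟩ := ha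
            obtain ⟨t, ht, y, hye⟩ := hclear c
            refine ⟨t * s, fun h => (hM.isPrime.mem_or_mem h).elim ht hs, y * x,
              m.mul_mem_left _ hx, ?_⟩
            rw [Subalgebra.coe_mul, hxe, hye, map_mul, smul_eq_mul, Subalgebra.coe_mul]
            ring
        obtain ⟨s, hs, x, hx, hxe⟩ := h2 1 h1
        apply hs
        rw [← hmM, Ideal.mem_comap]
        have : algebraMap T Ai s = x := Subtype.ext (by
          rw [hxe, OneMemClass.coe_one, mul_one]; rfl)
        rw [this]
        exact hx
      obtain ⟨n, hn, hle⟩ := Ideal.exists_le_maximal _ hne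
      haveI := hn
      exact ⟨n, hn, (hm.eq_of_le (Ideal.IsPrime.comap θ).ne_top
        (Ideal.map_le_iff_le_comap.1 hle)).symm⟩
    refine ⟨((hfin.image (Ideal.comap θ)).subset ?_), fun m hm hmM => ?_⟩
    · rintro m ⟨hm, hmM⟩
      obtain ⟨n, hn, rfl⟩ := hover m hm hmM
      exact ⟨n, hn, rfl⟩
    · obtain ⟨n, hn, hnm⟩ := hover m hm hmM
      haveI := hn
      haveI := hres n hn
      -- finiteness of `B ⧸ n` over `A`
      have hsurj : Function.Surjective
          ((Ideal.Quotient.mk (maximalIdeal TM)).comp (algebraMap T TM)) :=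
        fun y => by
          obtain ⟨z, rfl⟩ := (IsLocalization.AtPrime.equivQuotMaximalIdeal M TM).surjective y
          obtain ⟨t, rfl⟩ := Ideal.Quotient.mk_surjective z
          exact ⟨t, (IsLocalization.AtPrime.equivQuotMaximalIdeal_apply_mk M TM t).symm⟩
      haveI : Module.Finite A (TM ⧸ maximalIdeal TM) :=
        Module.Finite.of_surjective
          ((Ideal.Quotient.mkₐ A (maximalIdeal TM)).comp (IsScalarTower.toAlgHom A T TM)).toLinearMap
          hsurj
      exact residue_transfer A TM (integralClosure TM K') n m θ hnm (RingHom.ext fun a => by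
        apply Subtype.ext
        change algebraMap A K' a = algebraMap TM K' (algebraMap A TM a)
        rw [IsScalarTower.algebraMap_apply A T TM, ← IsScalarTower.algebraMap_apply T TM K',
          ← IsScalarTower.algebraMap_apply A T K'])
  constructor
  · refine ((finite_setOf_maximal (A := A) (T := T)).biUnion fun M hM => (key M hM).1).subset ?_
    intro m hm
    haveI : m.IsMaximal := hm
    exact Set.mem_biUnion (x := m.comap (algebraMap T Ai))
      (Ideal.isMaximal_comap_of_isIntegral_of_isMaximal m) ⟨hm, rfl⟩
  · intro m hm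
    haveI := hm
    exact (key _ (Ideal.isMaximal_comap_of_isIntegral_of_isMaximal m)).2 m hm rfl

end Groth.Agent.H25.MoriNagata
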