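import Groth.Agent.Lib.Cohen.Unramified
import Mathlib.AlgebraicGeometry.Morphisms.UniversallyInjective
import Mathlib.RingTheory.Ideal.GoingDown
import Mathlib.RingTheory.Ideal.MinimalPrime.Localization
import Mathlib.RingTheory.Ideal.MinimalPrime.Noetherian
import Mathlib.RingTheory.Flat.FaithfullyFlat.Algebra
import Mathlib.RingTheory.Algebraic.Integral
import Mathlib.RingTheory.Flat.TorsionFree
import Mathlib.LinearAlgebra.Dimension.Finite
import Mathlib.RingTheory.Localization.Module
import Mathlib.Algebra.Algebra.Subalgebra.Pointwise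

/-!
# Stabilisation of reduced base changes of finite subalgebras
-/

set_option linter.style.haveILetI false

universe u

open AlgebraicGeometry CategoryTheory

open scoped TensorProduct nonZeroDivisors

namespace Groth.Agent.H25.MoriNagata.Stab

/-- the product of the residue fields at the minimal primes -/
abbrev MinFields (E : Type u) [CommRing E] : Type u :=
  ∀ Q : minimalPrimes E, FractionRing (E ⧸ (Q.1 : Ideal E))

instance {E : Type u} [CommRing E] (Q : minimalPrimes E) : (Q.1 : Ideal E).IsPrime := Q.2.1.1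

theorem isNilpotent_of_minFields {E : Type u} [CommRing E] {r : E}
    (h : algebraMap E (MinFields E) r = 0) : IsNilpotent r := by
  rw [← mem_nilradical, nilradical, ← Ideal.sInf_minimalPrimes, Ideal.mem_sInf]
  intro Q hQ
  have h1 : algebraMap E (FractionRing (E ⧸ Q)) r = 0 := congrFun h ⟨Q, hQ⟩
  haveI : Q.IsPrime := hQ.1.1
  rw [IsScalarTower.algebraMap_apply E (E ⧸ Q) (FractionRing (E ⧸ Q))] at h1
  exact Ideal.Quotient.eq_zero_iff_mem.1
    ((map_eq_zero_iff _ (IsFractionRing.injective (E ⧸ Q) _)).1 h1)

attribute [local instance] FractionRing.liftAlgebra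

/-- Finiteness of the normalisation in the residue fields at minimal primes. -/
theorem finite_integralClosure (B E : Type u) [CommRing B] [CommRing E] [Algebra B E]
    [IsNoetherianRing B] [Module.Finite B E]
    (hJ : ∀ (q : Ideal B) [q.IsPrime], q ∈ minimalPrimes B → CAlg.IsN2 (B ⧸ q))
    (hmin : ∀ Q ∈ minimalPrimes E, Q.comap (algebraMap B E) ∈ minimalPrimes B) :
    Module.Finite B (integralClosure B (MinFields E)) := by
  classical
  haveI : IsNoetherianRing E := IsNoetherianRing.of_finite B E
  haveI : Finite (minimalPrimes E) := (minimalPrimes.finite_of_isNoetherianRing _).to_subtype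
  haveI hfin : ∀ Q : minimalPrimes E, Module.Finite B
      (integralClosure (B ⧸ ((Q.1 : Ideal E).comap (algebraMap B E)))
        (FractionRing (E ⧸ (Q.1 : Ideal E)))) := by
    intro Q
    haveI : (Q.1 : Ideal E).LiesOver ((Q.1 : Ideal E).comap (algebraMap B E)) := ⟨rfl⟩
    haveI : FaithfulSMul (B ⧸ ((Q.1 : Ideal E).comap (algebraMap B E))) (E ⧸ (Q.1 : Ideal E)) :=
      (faithfulSMul_iff_algebraMap_injective _ _).2 (Ideal.quotientMap_injective' le_rfl)
    haveI : Module.Finite (B ⧸ ((Q.1 : Ideal E).comap (algebraMap B E))) (E ⧸ (Q.1 : Ideal E)) :=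
      Module.Finite.of_restrictScalars_finite B _ _
    haveI := hJ _ (hmin _ Q.2) (FractionRing (E ⧸ (Q.1 : Ideal E))) inferInstance
    exact Module.Finite.trans (B ⧸ ((Q.1 : Ideal E).comap (algebraMap B E))) _
  let Φ : integralClosure B (MinFields E) →ₗ[B]
      ∀ Q : minimalPrimes E, integralClosure (B ⧸ ((Q.1 : Ideal E).comap (algebraMap B E)))
        (FractionRing (E ⧸ (Q.1 : Ideal E))) :=
    LinearMap.pi fun Q =>
      { toFun := fun z => ⟨(z : MinFields E) Q, by
          haveI : (Q.1 : Ideal E).LiesOver ((Q.1 : Ideal E).comap (algebraMap B E)) := ⟨rfl⟩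
          exact ((z.2 : IsIntegral B (z : MinFields E)).map (Pi.evalAlgHom B _ Q)).tower_top⟩
        map_add' := fun _ _ => rfl
        map_smul' := fun _ _ => rfl }
  exact Module.Finite.of_injective Φ fun z w h =>
    Subtype.ext (funext fun Q => congrArg Subtype.val (congrFun h Q))

section main

variable {A B K' : Type u} [CommRing A] [IsDomain A] [CommRing B] [Algebra A B] [IsNoetherianRing B]
  [Module.Flat A B]
  (hJ : ∀ (q : Ideal B) [q.IsPrime], q ∈ minimalPrimes B → CAlg.IsN2 (B ⧸ q))
  [Field K'] [Algebra A K'] [Algebra (FractionRing A) K'] [IsScalarTower A (FractionRing A) K']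
  [FiniteDimensional (FractionRing A) K']

/-- `C` is a finite subalgebra with fraction field `K'`. -/
def Pr (C : Subalgebra A K') : Prop :=
  Module.Finite A C ∧ ∀ x : K', ∃ a b : C, (b : K') ≠ 0 ∧ x * b = a

/-- an `A`-regular element stays regular -/
theorem smul_regular {C : Subalgebra A K'} {a : A} (ha : a ≠ 0) :
    Function.Injective fun z : B ⊗[A] C => a • z := by
  have hK : algebraMap A K' a ≠ 0 := by
    rw [IsScalarTower.algebraMap_apply A (FractionRing A) K']
    exact (map_ne_zero _).2 (IsFractionRing.to_map_eq_zero_iff.not.2 ha)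
  have h1 : Function.Injective (LinearMap.lsmul A C a) := fun u v huv => by
    have h2 : a • (u : K') = a • (v : K') := congrArg Subtype.val huv
    rw [Algebra.smul_def, Algebra.smul_def] at h2
    exact Subtype.ext (mul_left_cancel₀ hK h2)
  have h3 := Module.Flat.lTensor_preserves_injective_linearMap (M := B) _ h1
  intro u v huv
  refine h3 ?_
  have e : ∀ w : B ⊗[A] C, (LinearMap.lsmul A C a).lTensor B w = a • w := by
    intro w
    induction w using TensorProduct.induction_on with
    | zero => simp
    | tmul p q => rw [LinearMap.lTensor_tmul, ← TensorProduct.tmul_smul]; rfl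
    | add p q hp hq => rw [map_add, hp, hq, smul_add]
  rw [e, e]
  exact huv

/-- the comparison of base changes -/
noncomputable abbrev bc {C D : Subalgebra A K'} (h : C ≤ D) : B ⊗[A] C →ₐ[A] B ⊗[A] D :=
  Algebra.TensorProduct.map (AlgHom.id A B) (Subalgebra.inclusion h)

theorem bc_injective {C D : Subalgebra A K'} (h : C ≤ D) :
    Function.Injective (bc (B := B) h) := by
  have := Module.Flat.lTensor_preserves_injective_linearMap (M := B)
    (Subalgebra.inclusion h).toLinearMap (Subalgebra.inclusion_injective h)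
  intro u v huv
  refine this ?_
  have e : ∀ w : B ⊗[A] C, (Subalgebra.inclusion h).toLinearMap.lTensor B w = bc h w := by
    intro w
    induction w using TensorProduct.induction_on with
    | zero => simp
    | tmul p q => rfl
    | add p q hp hq => rw [map_add, map_add, hp, hq]
  rw [e, e]
  exact huv

set_option maxHeartbeats 2000000 in
set_option synthInstance.maxHeartbeats 200000 in
include hJ in
theorem exists_stable : ∃ Cα : Subalgebra A K', Pr Cα ∧
    ∀ C : Subalgebra A K', Pr C → ∀ hle : Cα ≤ C,
      ∀ y : B ⊗[A] C, ∃ x : B ⊗[A] Cα, IsNilpotent (bc hle x - y) := by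
  classical
  let K := FractionRing A
  let bas := Module.finBasis K K'
  have hmb : ∀ i, ∃ d : A⁰, IsIntegral A (d • bas i) := fun i =>
    IsIntegral.exists_multiple_integral_of_isLocalization (Rₘ := K) _ (bas i)
      (Algebra.IsIntegral.isIntegral _)
  choose d hd using hmb
  let β := fun i => d i • bas i
  set C0 := Algebra.adjoin A (Set.range β) with hC0
  haveI : Module.Finite A C0 := Module.Finite.iff_fg.2 (fg_adjoin_of_finite (Set.finite_range β)
    (by rintro _ ⟨i, rfl⟩; exact hd i))
  have hK0 : ∀ a : A, a ≠ 0 → algebraMap A K' a ≠ 0 := fun a ha => by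
    rw [IsScalarTower.algebraMap_apply A K K']
    exact (map_ne_zero _).2 (IsFractionRing.to_map_eq_zero_iff.not.2 ha)
  have hsc : ∀ z : K', ∃ a : A, a ≠ 0 ∧ algebraMap A K' a * z ∈ C0 := by
    intro z
    obtain ⟨b, hb⟩ := IsLocalization.exist_integer_multiples_of_finset A⁰
      (Finset.univ.image fun i => bas.repr z i * (algebraMap A K (d i))⁻¹)
    choose a ha using fun i => hb _ (Finset.mem_image_of_mem _ (Finset.mem_univ i))
    refine ⟨b, nonZeroDivisors.coe_ne_zero b, ?_⟩
    have e : algebraMap A K' b * z = ∑ i, algebraMap A K' (a i) * β i := by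
      conv_lhs => rw [← bas.sum_repr z, Finset.mul_sum]
      refine Finset.sum_congr rfl fun i _ => ?_
      have h1 : algebraMap A K (b : A) * bas.repr z i =
          algebraMap A K (a i) * algebraMap A K (d i) := by
        rw [ha i, Algebra.smul_def, mul_assoc, mul_assoc,
          inv_mul_cancel₀ (IsLocalization.map_units K (d i)).ne_zero, mul_one]
      rw [Algebra.smul_def, ← mul_assoc, IsScalarTower.algebraMap_apply A K K', ← map_mul, h1,
        map_mul, ← IsScalarTower.algebraMap_apply, ← IsScalarTower.algebraMap_apply]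
      change _ = algebraMap A K' (a i) * ((d i : A) • bas i)
      rw [Algebra.smul_def]
      ring
    rw [e]
    exact sum_mem fun i _ => C0.mul_mem (C0.algebraMap_mem _) (Algebra.subset_adjoin ⟨i, rfl⟩)
  haveI : IsFractionRing C0 K' := IsFractionRing.of_field C0 K' fun z => by
    obtain ⟨a, ha, haz⟩ := hsc z
    refine ⟨⟨_, haz⟩, algebraMap A C0 a, ?_⟩
    have := hK0 a ha
    change z = algebraMap A K' a * z / algebraMap A K' a
    field_simp
  -- minimal primes of `E` lie over minimal primes of `B`
  let E := B ⊗[A] C0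
  haveI : Module.Finite B E := inferInstance
  let ι : E →ₐ[B] B ⊗[A] K' := Algebra.TensorProduct.map (AlgHom.id B B) C0.val
  have hι : Function.Injective ι := by
    have := Module.Flat.lTensor_preserves_injective_linearMap (M := B)
      C0.val.toLinearMap Subtype.val_injective
    intro u v huv
    refine this ?_
    have e : ∀ w : E, C0.val.toLinearMap.lTensor B w = ι w := by
      intro w
      induction w using TensorProduct.induction_on with
      | zero => simp
      | tmul p q => rfl
      | add p q hp hq => rw [map_add, map_add, hp, hq]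
    rw [e, e]
    exact huv
  haveI : Module.Flat A K := IsLocalization.flat K A⁰
  haveI : Module.Flat A K' := Module.Flat.trans A K K'
  haveI : Algebra.HasGoingDown B (B ⊗[A] K') := Algebra.HasGoingDown.of_flat
  have hmin : ∀ Q ∈ minimalPrimes E, Q.comap (algebraMap B E) ∈ minimalPrimes B := by
    intro Q hQ
    haveI : Q.IsPrime := hQ.1.1
    obtain ⟨Q', hQ', hQ'Q⟩ := Ideal.exists_comap_eq_of_mem_minimalPrimes_of_injective
      (f := ι.toRingHom) hι Q hQ
    haveI := hQ'
    refine ⟨⟨Ideal.IsPrime.comap _, bot_le⟩, fun q hq hle => ?_⟩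
    haveI : q.IsPrime := hq.1
    haveI : Q'.LiesOver (Q.comap (algebraMap B E)) := ⟨by
      rw [← hQ'Q, Ideal.comap_comap]
      exact congrArg (fun f => Q'.comap f) (ι.comp_algebraMap).symm⟩
    obtain ⟨P, hPQ, hP, hPq⟩ := Ideal.exists_ideal_le_liesOver_of_le Q' hle
    have h1 : P.comap ι.toRingHom = Q :=
      le_antisymm ((Ideal.comap_mono hPQ).trans_eq hQ'Q)
        (hQ.2 ⟨Ideal.IsPrime.comap _, bot_le⟩ ((Ideal.comap_mono hPQ).trans_eq hQ'Q))
    rw [hPq.over, ← h1]
    change Ideal.comap _ (Ideal.comap _ P) ≤ P.comap (algebraMap B (B ⊗[A] K'))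
    rw [Ideal.comap_comap, show ι.toRingHom.comp (algebraMap B E) = algebraMap B (B ⊗[A] K') from
      ι.comp_algebraMap]
  haveI hfinL := finite_integralClosure B E hJ hmin
  -- the map `K' → L`
  let L := MinFields E
  let inR : C0 →ₐ[A] E := Algebra.TensorProduct.includeRight
  have hu : ∀ c : C0⁰, IsUnit (algebraMap E L (inR c)) := by
    intro c
    obtain ⟨a, ha, hac⟩ := hsc ((c : C0) : K')⁻¹
    have hc0 : ((c : C0) : K') ≠ 0 := fun h => nonZeroDivisors.coe_ne_zero c (Subtype.ext h)
    have e : inR c * inR ⟨_, hac⟩ = inR (algebraMap A C0 a) := by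
      rw [← map_mul]
      congr 1
      apply Subtype.ext
      change ((c : C0) : K') * (algebraMap A K' a * ((c : C0) : K')⁻¹) = algebraMap A K' a
      field_simp
    suffices h : IsUnit (algebraMap E L (inR (algebraMap A C0 a))) by
      rw [← e, map_mul] at h
      exact isUnit_of_mul_isUnit_left h
    suffices h : ∀ Q : minimalPrimes E, algebraMap E L (inR (algebraMap A C0 a)) Q ≠ 0 by
      refine IsUnit.of_mul_eq_one
        (b := fun Q => (algebraMap E L (inR (algebraMap A C0 a)) Q)⁻¹) ?_
      funext Q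
      rw [Pi.mul_apply, mul_inv_cancel₀ (h Q)]
      rfl
    intro Q h
    rw [Pi.algebraMap_apply, IsScalarTower.algebraMap_apply E (E ⧸ (Q.1 : Ideal E))] at h
    have h1 := Ideal.Quotient.eq_zero_iff_mem.1
      ((map_eq_zero_iff _ (IsFractionRing.injective (E ⧸ (Q.1 : Ideal E)) _)).1 h)
    refine Set.disjoint_left.1 (Ideal.disjoint_nonZeroDivisors_of_mem_minimalPrimes Q.2) h1 ?_
    refine mem_nonZeroDivisors_iff_right.2 fun x hx => smul_regular (C := C0) ha ?_
    simp only [smul_zero]
    rw [← hx, inR.commutes, mul_comm, ← Algebra.smul_def]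
  let j : K' →+* L := IsLocalization.lift (M := C0⁰) (g := (algebraMap E L).comp inR.toRingHom) hu
  have hjC : ∀ c : C0, j (c : K') = algebraMap E L (inR c) := fun c => IsLocalization.lift_eq hu c
  haveI : IsScalarTower A B L := inferInstance
  haveI : IsScalarTower A E L := inferInstance
  let jA : K' →ₐ[A] L := { j with
    commutes' := fun a => by
      change j (algebraMap A K' a) = algebraMap A L a
      rw [show algebraMap A K' a = ((algebraMap A C0 a : C0) : K') from rfl, hjC, inR.commutes,
        ← IsScalarTower.algebraMap_apply A E L] }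
  let J : ∀ C : Subalgebra A K', B ⊗[A] C →ₐ[A] L := fun C =>
    Algebra.TensorProduct.lift (IsScalarTower.toAlgHom A B L) (jA.comp C.val)
      fun _ _ => Commute.all _ _
  have hJ0 : ∀ e : E, J C0 e = algebraMap E L e := by
    intro e
    induction e using TensorProduct.induction_on with
    | zero => rw [map_zero, map_zero]
    | tmul b c =>
      change algebraMap B L b * j (c : K') = _
      rw [hjC, IsScalarTower.algebraMap_apply B E L, ← map_mul]
      congr 1
      change (b ⊗ₜ[A] (1 : C0)) * ((1 : B) ⊗ₜ[A] c) = _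
      rw [Algebra.TensorProduct.tmul_mul_tmul, mul_one, one_mul]
    | add p q hp hq => rw [map_add, map_add, hp, hq]
  have hJbc : ∀ (C D : Subalgebra A K') (h : C ≤ D) (z : B ⊗[A] C), J D (bc h z) = J C z := by
    intro C D h z
    induction z using TensorProduct.induction_on with
    | zero => simp only [map_zero]
    | tmul b c => rfl
    | add p q hp hq => rw [map_add, map_add, map_add, hp, hq]
  have hker : ∀ (C : Subalgebra A K') (h : C0 ≤ C) (z : B ⊗[A] C), J C z = 0 → IsNilpotent z := by
    intro C h z hz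
    have hcl : ∃ a : A, a ≠ 0 ∧ ∃ e : E, bc h e = a • z := by
      clear hz
      induction z using TensorProduct.induction_on with
      | zero => exact ⟨1, one_ne_zero, 0, by rw [map_zero, smul_zero]⟩
      | tmul b c =>
        obtain ⟨a, ha, hac⟩ := hsc (c : K')
        refine ⟨a, ha, b ⊗ₜ ⟨_, hac⟩, ?_⟩
        rw [← TensorProduct.tmul_smul]
        exact congrArg (b ⊗ₜ[A] ·) (Subtype.ext (Algebra.smul_def a (c : K')).symm)
      | add p q hp hq =>
        obtain ⟨a, ha, e, he⟩ := hp
        obtain ⟨a', ha', e', he'⟩ := hq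
        refine ⟨a * a', mul_ne_zero ha ha', a' • e + a • e', ?_⟩
        rw [map_add, map_smul, map_smul, he, he', smul_add, smul_smul, smul_smul, mul_comm a' a]
    obtain ⟨a, ha, e, he⟩ := hcl
    have h0 : algebraMap E L e = 0 := by
      rw [← hJ0, ← hJbc C0 C h, he, map_smul, hz, smul_zero]
    obtain ⟨m, hm⟩ := (isNilpotent_of_minFields h0).map (bc (B := B) h)
    rw [he, smul_pow] at hm
    exact ⟨m, smul_regular (pow_ne_zero m ha) (by simpa using hm)⟩
  -- the finite subalgebra
  set s : Set L := j '' (integralClosure A K' : Set K') with hs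
  haveI : IsNoetherian B (integralClosure B L).toSubmodule :=
    isNoetherian_of_fg_of_noetherian _ (Module.Finite.iff_fg.1 hfinL)
  have hle : Submodule.span B s ≤ (integralClosure B L).toSubmodule := by
    refine Submodule.span_le.2 ?_
    rintro _ ⟨x, hx, rfl⟩
    exact ((hx : IsIntegral A x).map jA).tower_top
  have hfg : (Submodule.span B s).FG := by
    have h2 := IsNoetherian.noetherian
      ((Submodule.span B s).comap (integralClosure B L).toSubmodule.subtype)
    have h3 := h2.map (integralClosure B L).toSubmodule.subtype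
    rwa [Submodule.map_comap_subtype, inf_eq_right.2 hle] at h3
  obtain ⟨s', hs', hspan⟩ := (Submodule.fg_span_iff_fg_span_finset_subset s).1 hfg
  choose g hg hg' using fun z : s' => hs' z.2
  let Cα := Algebra.adjoin A (Set.range β ∪ Set.range g)
  have h0α : C0 ≤ Cα := Algebra.adjoin_mono Set.subset_union_left
  have hα : Pr Cα := by
    refine ⟨Module.Finite.iff_fg.2 (fg_adjoin_of_finite
      ((Set.finite_range β).union (Set.finite_range g)) ?_), fun x => ?_⟩
    · rintro _ (⟨i, rfl⟩ | ⟨z, rfl⟩)
      exacts [hd i, hg z]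
    · obtain ⟨a, ha, hax⟩ := hsc x
      exact ⟨⟨_, h0α hax⟩, algebraMap A Cα a, hK0 a ha, mul_comm x (algebraMap A K' a)⟩
  refine ⟨Cα, hα, fun C hC h y => ?_⟩
  haveI := hC.1
  have hCi : C ≤ integralClosure A K' := fun x hx =>
    (Algebra.IsIntegral.isIntegral (R := A) (⟨x, hx⟩ : C)).map C.val
  have hy : J C y ∈ Submodule.span B (s' : Set L) := by
    rw [← hspan]
    induction y using TensorProduct.induction_on with
    | zero => rw [map_zero]; exact zero_mem _
    | tmul b c =>
      change algebraMap B L b * j (c : K') ∈ _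
      rw [← Algebra.smul_def]
      exact Submodule.smul_mem _ _ (Submodule.subset_span ⟨c, hCi c.2, rfl⟩)
    | add p q hp hq => rw [map_add]; exact add_mem hp hq
  have hsur : ∀ l ∈ Submodule.span B (s' : Set L), ∃ x : B ⊗[A] Cα, J Cα x = l := by
    intro l hl
    induction hl using Submodule.span_induction with
    | mem z hz =>
      refine ⟨(1 : B) ⊗ₜ ⟨g ⟨z, hz⟩, Algebra.subset_adjoin (Or.inr ⟨_, rfl⟩)⟩, ?_⟩
      change algebraMap B L 1 * j (g ⟨z, hz⟩) = z
      rw [map_one, one_mul]
      exact hg' ⟨z, hz⟩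
    | zero => exact ⟨0, map_zero _⟩
    | add p q _ _ hp hq =>
      obtain ⟨x, rfl⟩ := hp
      obtain ⟨x', rfl⟩ := hq
      exact ⟨x + x', map_add _ _ _⟩
    | smul b p _ hp =>
      obtain ⟨x, rfl⟩ := hp
      refine ⟨(b ⊗ₜ[A] (1 : Cα)) * x, ?_⟩
      rw [map_mul, Algebra.smul_def]
      congr 1
      change algebraMap B L b * j 1 = _
      rw [map_one, mul_one]
  obtain ⟨x, hx⟩ := hsur _ hy
  refine ⟨x, hker C (h0α.trans h) _ ?_⟩
  rw [map_sub, hJbc, hx, sub_self]

theorem universallyInjective_of_stable [Module.FaithfullyFlat A B] {Cα : Subalgebra A K'}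
    (hα : Pr Cα) (h : ∀ C : Subalgebra A K', Pr C → ∀ hle : Cα ≤ C,
      ∀ y : B ⊗[A] C, ∃ x : B ⊗[A] Cα, IsNilpotent (bc hle x - y))
    (hint : Cα ≤ integralClosure A K') :
    UniversallyInjective (Spec.map (CommRingCat.ofHom (Subalgebra.inclusion hint).toRingHom)) := by
  refine ((tfae_universallyInjective _).out 0 1).2 ?_
  intro K _ g₁ g₂ hg
  obtain ⟨φ₁, rfl⟩ := Spec.map_surjective g₁
  obtain ⟨φ₂, rfl⟩ := Spec.map_surjective g₂
  simp only [← Spec.map_comp] at hg
  have hcomp := congrArg CommRingCat.Hom.hom (Spec.map_injective hg)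
  congr 1
  refine CommRingCat.hom_ext (RingHom.ext fun x => ?_)
  letI : Algebra A K := (φ₁.hom.comp (algebraMap A (integralClosure A K'))).toAlgebra
  let F : Type u := K ⊗[A] B
  haveI : Nontrivial F := inferInstance
  obtain ⟨n, hn⟩ := Ideal.exists_maximal F
  haveI := hn
  letI := Ideal.Quotient.field n
  let emb : K →+* F ⧸ n := (Ideal.Quotient.mk n).comp
    (Algebra.TensorProduct.includeLeftRingHom : K →+* K ⊗[A] B)
  let β₀ : B →+* F ⧸ n := (Ideal.Quotient.mk n).comp
    (Algebra.TensorProduct.includeRight : B →ₐ[A] K ⊗[A] B).toRingHom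
  let C : Subalgebra A K' := Cα ⊔ Algebra.adjoin A {(x : K')}
  haveI := hα.1
  have hC : Pr C := by
    refine ⟨(Module.Finite.iff_fg (N := Subalgebra.toSubmodule C)).2 ?_, fun z => ?_⟩
    · rw [show C = Cα ⊔ Algebra.adjoin A {(x : K')} from rfl, ← Subalgebra.mul_toSubmodule]
      exact Submodule.FG.mul (Module.Finite.iff_fg.1 hα.1) x.2.fg_adjoin_singleton
    · obtain ⟨a, b, hb, hab⟩ := hα.2 z
      exact ⟨⟨a, (le_sup_left : Cα ≤ C) a.2⟩, ⟨b, (le_sup_left : Cα ≤ C) b.2⟩, hb, hab⟩
  haveI := hC.1
  have hCi : C ≤ integralClosure A K' := sup_le hint (Algebra.adjoin_le (by simpa using x.2))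
  obtain ⟨z, hz⟩ := h C hC le_sup_left
    ((1 : B) ⊗ₜ ⟨x, (le_sup_right : Algebra.adjoin A {(x : K')} ≤ C) (Algebra.subset_adjoin rfl)⟩)
  let βA : B →ₐ[A] F ⧸ n := { β₀ with
    commutes' := fun a => by
      change Ideal.Quotient.mk n _ = Ideal.Quotient.mk n _
      congr 1
      exact (Algebra.TensorProduct.includeRight : B →ₐ[A] K ⊗[A] B).commutes a }
  have key : ∀ (φ : integralClosure A K' →+* K)
      (hφ : φ.comp (Subalgebra.inclusion hint).toRingHom =
        φ₁.hom.comp (Subalgebra.inclusion hint).toRingHom),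
      emb (φ x) = Algebra.TensorProduct.lift βA
        ({ emb.comp (φ₁.hom.comp (Subalgebra.inclusion hint).toRingHom) with
           commutes' := fun a => rfl } : Cα →ₐ[A] F ⧸ n) (fun _ _ => Commute.all _ _) z := by
    intro φ hφ
    let φC : C →ₐ[A] F ⧸ n :=
      { emb.comp (φ.comp (Subalgebra.inclusion hCi).toRingHom) with
        commutes' := fun a => congrArg emb (RingHom.congr_fun hφ (algebraMap A Cα a)) }
    let Φ : B ⊗[A] C →ₐ[A] F ⧸ n :=
      Algebra.TensorProduct.lift βA φC fun _ _ => Commute.all _ _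
    have h0 := (hz.map Φ).eq_zero
    rw [map_sub, sub_eq_zero, Algebra.TensorProduct.lift_tmul, map_one, one_mul] at h0
    refine (show emb (φ x) = φC ⟨x, _⟩ from rfl).trans (h0.symm.trans ?_)
    clear h0 hz
    induction z using TensorProduct.induction_on with
    | zero => simp only [map_zero]
    | tmul b c =>
      rw [Algebra.TensorProduct.map_tmul, Algebra.TensorProduct.lift_tmul,
        Algebra.TensorProduct.lift_tmul]
      congr 1
      exact congrArg emb (RingHom.congr_fun hφ c)
    | add p q hp hq => rw [map_add, map_add, map_add, hp, hq]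
  exact emb.injective ((key φ₁.hom rfl).trans (key φ₂.hom hcomp.symm).symm)

include hJ in
theorem main : ∃ Cα : Subalgebra A K', Pr Cα ∧
      (∀ C : Subalgebra A K', Pr C → ∀ hle : Cα ≤ C,
        (∀ x : ↥Cα ⊗[A] B,
          IsNilpotent (Algebra.TensorProduct.map (Subalgebra.inclusion hle) (AlgHom.id A B) x) →
          IsNilpotent x) ∧
        (∀ y : ↥C ⊗[A] B, ∃ x : ↥Cα ⊗[A] B,
          IsNilpotent
            (Algebra.TensorProduct.map (Subalgebra.inclusion hle) (AlgHom.id A B) x - y))) ∧
      (Module.FaithfullyFlat A B → ∀ hint : Cα ≤ integralClosure A K',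
        UniversallyInjective
          (Spec.map (CommRingCat.ofHom (Subalgebra.inclusion hint).toRingHom))) := by
  obtain ⟨Cα, hα, h⟩ := exists_stable (A := A) (K' := K') hJ
  refine ⟨Cα, hα, fun C hC hle => ?_, fun _ hint => universallyInjective_of_stable hα h hint⟩
  let cα := Algebra.TensorProduct.comm A B Cα
  let cC := Algebra.TensorProduct.comm A B C
  have hcomm : ∀ z : B ⊗[A] Cα, Algebra.TensorProduct.map (Subalgebra.inclusion hle)
      (AlgHom.id A B) (cα z) = cC (bc hle z) := by
    intro z
    induction z using TensorProduct.induction_on with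
    | zero => simp only [map_zero]
    | tmul b c => rfl
    | add p q hp hq => simp only [map_add, hp, hq]
  constructor
  · intro x hx
    obtain ⟨z, rfl⟩ := cα.surjective x
    rw [hcomm] at hx
    obtain ⟨m, hm⟩ := hx
    refine ⟨m, ?_⟩
    rw [← map_pow, ← map_pow] at hm
    rw [← map_pow, bc_injective hle ((cC.injective (hm.trans (map_zero cC).symm)).trans
      (map_zero _).symm), map_zero]
  · intro y
    obtain ⟨y, rfl⟩ := cC.surjective y
    obtain ⟨x, hx⟩ := h C hC hle y
    refine ⟨cα x, ?_⟩
    rw [hcomm, ← map_sub]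
    exact hx.map cC

end main

end Groth.Agent.H25.MoriNagata.Stab
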